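import Cfsg.Agent.H74.PslA

/-!
The end of the argument: a subgroup `H` of `SL_n(F)` without transvections which is a complement
of every group of transvections with a common centre exists only for `(n, q) = (4, 2)`.
-/

set_option autoImplicit false
set_option linter.unusedSectionVars false
set_option linter.unusedSimpArgs false

namespace Cfsg.Agent.H74.Psl

open Matrix Module

variable {F : Type*} [Field F] {n : ℕ}

local notation "𝕍" => Fin n → F
local notation "𝕊" => Matrix.SpecialLinearGroup (Fin n) F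

theorem exists_diag {v w : 𝕍} {fv fw : Dual F 𝕍} (h1 : fv v = 1) (h2 : fv w = 0) (h3 : fw v = 0)
    (h4 : fw w = 1) {a : F} (ha : a ≠ 0) :
    ∃ g : 𝕊, ∀ x, g • x = x + ((a⁻¹ - 1) * fv x) • v + ((a - 1) * fw x) • w := by
  refine ⟨T w (a • fv) (by simp [h2]) * T v ((-a⁻¹) • fw) (by simp [h3]) *
    T w (a • fv) (by simp [h2]) * T w ((-1 : F) • fv) (by simp [h2]) *
    T v ((1 : F) • fw) (by simp [h3]) * T w ((-1 : F) • fv) (by simp [h2]), ?_⟩
  intro x
  simp only [mul_smul, T_smul, LinearMap.smul_apply, map_add, map_smul, h1, h2, h3, h4,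
    smul_eq_mul, mul_one, mul_zero, add_zero, zero_add, one_mul]
  ext i
  simp only [Pi.add_apply, Pi.smul_apply, smul_eq_mul]
  field_simp
  ring

variable {Ω : Type*} [MulAction (Matrix.SpecialLinearGroup (Fin n) F) Ω]

/-- `T w φ * T v ψ` fixes `ω` -/
def PP (v : 𝕍) (φ : Dual F 𝕍) (ω : Ω) (w : 𝕍) (ψ : Dual F 𝕍) : Prop :=
  ∃ (h1 : φ w = 0) (h2 : ψ v = 0), (T w φ h1 * T v ψ h2) • ω = ω

theorem final (hn : 3 ≤ n) (hexc : ¬ (n = 4 ∧ Nat.card F = 2)) (ω : Ω)
    (hno : ∀ (v : 𝕍) (f : Dual F 𝕍) (h : f v = 0), T v f h • ω = ω → v = 0 ∨ f = 0)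
    (htr : ∀ v : 𝕍, v ≠ 0 → ∀ ω' : Ω, ∃ (f : Dual F 𝕍) (h : f v = 0), T v f h • ω = ω') :
    False := by
  obtain ⟨v, w, hv, hw⟩ : ∃ v w : 𝕍, v ≠ 0 ∧ w ∉ Submodule.span F ({v} : Set 𝕍) := by
    obtain ⟨v, hv⟩ := exists_notMem_pair (F := F) hn 0 0
    obtain ⟨w, hw⟩ := exists_notMem_pair (F := F) hn v v
    refine ⟨v, w, ?_, not_mem_single hw⟩
    rintro rfl
    exact hv (Submodule.zero_mem _)
  obtain ⟨z, hz⟩ := exists_notMem_pair (F := F) hn v w
  obtain ⟨φ, hφ, hφz⟩ := sep hz
  have hφv : φ v = 0 := hφ v (Submodule.subset_span (by simp))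
  have hφw : φ w = 0 := hφ w (Submodule.subset_span (by simp))
  have hφ0 : φ ≠ 0 := by
    rintro rfl
    simp at hφz
  have hfin : finrank F (LinearMap.ker φ) + 1 = n := by
    have h1 := LinearMap.finrank_range_add_finrank_ker φ
    have h2 : finrank F (LinearMap.range φ) = 1 := by
      have : LinearMap.range φ = ⊤ := by
        rw [LinearMap.range_eq_top]
        intro c
        exact ⟨c • z, by rw [map_smul, hφz, smul_eq_mul, mul_one]⟩
      rw [this, finrank_top, finrank_self]
    rw [h2, finrank_fin_fun] at h1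
    omega
  -- uniqueness
  have huniq : ∀ {w : 𝕍} {ψ ψ' : Dual F 𝕍}, PP v φ ω w ψ → PP v φ ω w ψ' → ψ = ψ' := by
    rintro w ψ ψ' ⟨h1, h2, h3⟩ ⟨h1', h2', h3'⟩
    have h4 : T v ψ h2 • ω = T v ψ' h2' • ω := by
      rw [mul_smul] at h3 h3'
      have := h3.trans h3'.symm
      exact MulAction.injective _ this
    have h5 : T v (-ψ' + ψ) (by simp [h2, h2']) • ω = ω := by
      rw [← T_mul_same v (-ψ') ψ (by simp [h2']) h2, mul_smul, h4, ← T_inv v ψ' h2',
        inv_smul_smul]
    rcases hno _ _ _ h5 with h | h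
    · exact (hv h).elim
    · rw [neg_add_eq_zero] at h
      exact h.symm
  have hex : ∀ w : 𝕍, φ w = 0 → ∃ ψ, PP v φ ω w ψ := by
    intro w hw
    obtain ⟨ψ, hψ, h⟩ := htr v hv ((T w φ hw)⁻¹ • ω)
    exact ⟨ψ, hw, hψ, by rw [mul_smul, h, smul_inv_smul]⟩
  choose! ψ hψ using hex
  have hmul : ∀ {w w' : 𝕍} {ψ ψ' : Dual F 𝕍}, PP v φ ω w ψ → PP v φ ω w' ψ' →
      PP v φ ω (w + w') (ψ + ψ' + ψ w' • φ) := by
    rintro w w' ψ ψ' ⟨h1, h2, h3⟩ ⟨h1', h2', h3'⟩
    refine ⟨by rw [map_add, h1, h1', add_zero], by simp [h2, h2', hφv], ?_⟩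
    have h4 : T (w + w') φ (by rw [map_add, h1, h1', add_zero]) *
        T v (ψ + ψ' + ψ w' • φ) (by simp [h2, h2', hφv]) =
        (T w φ h1 * T v ψ h2) * (T w' φ h1' * T v ψ' h2') := by
      apply smul_ext
      intro x
      simp only [mul_smul, T_smul, LinearMap.add_apply, LinearMap.smul_apply, map_add, map_smul,
        h1, h1', h2, h2', hφv, smul_eq_mul, mul_zero, add_zero, smul_add]
      ext i
      simp only [Pi.add_apply, Pi.smul_apply, smul_eq_mul]
      ring
    rw [h4, mul_smul, h3', h3]
  -- the form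
  have hψv : ∀ w, φ w = 0 → ψ w v = 0 := fun w hw => (hψ w hw).2.1
  have hadd : ∀ {x y : 𝕍}, φ x = 0 → φ y = 0 → ψ (x + y) = ψ x + ψ y + ψ x y • φ := by
    intro x y hx hy
    exact huniq (hψ _ (by rw [map_add, hx, hy, add_zero])) (hmul (hψ x hx) (hψ y hy))
  have hsymm : ∀ {x y : 𝕍}, φ x = 0 → φ y = 0 → ψ x y = ψ y x := by
    intro x y hx hy
    have h1 := hadd hx hy
    rw [add_comm x y, hadd hy hx] at h1
    have h2 := LinearMap.congr_fun h1 z
    simp only [LinearMap.add_apply, LinearMap.smul_apply, hφz, smul_eq_mul, mul_one] at h2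
    linear_combination -h2
  have hv' : ∀ {y : 𝕍} (c : F), φ y = 0 → ψ (c • v) y = 0 := by
    intro y c hy
    rw [hsymm (by rw [map_smul, hφv, smul_zero]) hy, map_smul, hψv y hy, smul_zero]
  have haddl : ∀ {x x' y : 𝕍}, φ x = 0 → φ x' = 0 → φ y = 0 → ψ (x + x') y = ψ x y + ψ x' y := by
    intro x x' y hx hx' hy
    rw [hsymm (by rw [map_add, hx, hx', add_zero]) hy, map_add, hsymm hy hx, hsymm hy hx']
  have hsmull : ∀ {x y : 𝕍} (c : F), φ x = 0 → φ y = 0 → ψ (c • x) y = c * ψ x y := by
    intro x y c hx hy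
    rw [hsymm (by rw [map_smul, hx, smul_zero]) hy, map_smul, hsymm hy hx, smul_eq_mul]
  -- non-degeneracy
  have hN : ∀ {x : 𝕍}, φ x = 0 → x ∉ Submodule.span F ({v} : Set 𝕍) →
      ∃ y, φ y = 0 ∧ ψ x y ≠ 0 := by
    intro x hx hx'
    by_contra! hc
    have h1 : ψ x = ψ x z • φ := by
      apply LinearMap.ext
      intro y
      have h2 := hc (y - φ y • z) (by rw [map_sub, map_smul, hφz, smul_eq_mul, mul_one, sub_self])
      rw [map_sub, map_smul, sub_eq_zero] at h2
      rw [h2, LinearMap.smul_apply, smul_eq_mul, smul_eq_mul, mul_comm]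
    obtain ⟨h2, h3, h4⟩ := hψ x hx
    have h5 : T x φ h2 * T v (ψ x) h3 = T (x + ψ x z • v) φ (by simp [hx, hφv]) := by
      apply smul_ext
      intro y
      have h6 : ψ x y = ψ x z * φ y := by
        have := LinearMap.congr_fun h1 y
        simpa using this
      simp only [mul_smul, T_smul, map_add, map_smul, hφv, smul_eq_mul, mul_zero, add_zero]
      rw [h6]
      ext i
      simp only [Pi.add_apply, Pi.smul_apply, smul_eq_mul]
      ring
    rw [h5] at h4
    rcases hno _ _ _ h4 with h | h
    · apply hx'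
      rw [Submodule.mem_span_singleton]
      refine ⟨-ψ x z, ?_⟩
      rw [neg_smul]
      exact (eq_neg_of_add_eq_zero_left h).symm
    · exact hφ0 h
  -- invariance
  have hinv : ∀ (g : 𝕊) (s : F), g • v = s • v → (∀ x, φ (g • x) = φ x) →
      ∀ {x y : 𝕍}, φ x = 0 → φ y = 0 → ψ (g • x) (g • y) = s * ψ x y := by
    intro g s hgv hgφ x y hx hy
    obtain ⟨f, hf, h⟩ := htr v hv (g⁻¹ • ω)
    have h1 : (g * T v f hf) • ω = ω := by rw [mul_smul, h, smul_inv_smul]
    have hh : ∀ x, (g * T v f hf) • x = g • x + (s * f x) • v := by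
      intro x
      rw [mul_smul, T_smul, smul_add, smul_comm, hgv, smul_smul, mul_comm]
    have hφh : ∀ x, φ ((g * T v f hf) • x) = φ x := by
      intro x
      rw [hh, map_add, hgφ, map_smul, hφv, smul_zero, add_zero]
    have hφh' : ∀ x, φ ((g * T v f hf)⁻¹ • x) = φ x := by
      intro x
      rw [← hφh, smul_inv_smul]
    obtain ⟨h2, h3, h4⟩ := hψ x hx
    have hvh : (g * T v f hf) • v = s • v := by
      rw [hh, hf, mul_zero, zero_smul, add_zero, hgv]
    have hs0 : s ≠ 0 := by
      rintro rfl
      rw [zero_smul] at hvh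
      apply hv
      have := congrArg (fun u => (g * T v f hf)⁻¹ • u) hvh
      simp only [inv_smul_smul, smul_zero] at this
      exact this
    have hvh' : (g * T v f hf)⁻¹ • v = s⁻¹ • v := by
      rw [inv_smul_eq_iff, smul_comm, hvh, smul_smul, inv_mul_cancel₀ hs0, one_smul]
    have hQ : PP v φ ω ((g * T v f hf) • x) (s • co (g * T v f hf) (ψ x)) := by
      refine ⟨by rw [hφh, hx], ?_, ?_⟩
      · rw [LinearMap.smul_apply, co_apply, hvh', map_smul, h3, smul_zero, smul_zero]
      · have h5 : T ((g * T v f hf) • x) φ (by rw [hφh, hx]) *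
            T v (s • co (g * T v f hf) (ψ x)) (by
              rw [LinearMap.smul_apply, co_apply, hvh', map_smul, h3, smul_zero, smul_zero]) =
            (g * T v f hf) * (T x φ h2 * T v (ψ x) h3) * (g * T v f hf)⁻¹ := by
          apply smul_ext
          intro y
          rw [mul_smul, mul_smul (g * T v f hf * _), mul_smul (g * T v f hf)]
          generalize hk : g * T v f hf = k at *
          simp only [mul_smul, T_smul, map_add, map_smul, hφv, smul_eq_mul, mul_zero, add_zero,
            zero_smul, smul_zero, smul_add, hφh', smul_inv_smul, LinearMap.smul_apply, co_apply]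
          rw [smul_comm k (ψ x (k⁻¹ • y)) v, smul_comm k (φ y) x, hvh, smul_smul,
            mul_comm s (ψ x (k⁻¹ • y)), ← smul_smul]
        rw [h5, mul_smul, mul_smul, (inv_smul_eq_iff.2 h1.symm : (g * T v f hf)⁻¹ • ω = ω), h4, h1]
    have h6 := huniq (hψ _ (by rw [hφh, hx])) hQ
    have h7 := LinearMap.congr_fun h6 ((g * T v f hf) • y)
    rw [LinearMap.smul_apply, co_apply, inv_smul_smul, smul_eq_mul] at h7
    rw [← h7, hh x, hh y]
    have hgx : φ (g • x) = 0 := by rw [hgφ, hx]
    have hgy : φ (g • y) = 0 := by rw [hgφ, hy]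
    have hcv : ∀ c : F, φ (c • v) = 0 := fun c => by rw [map_smul, hφv, smul_zero]
    rw [haddl hgx (hcv _) (by rw [map_add, hgy, hcv, add_zero]), hv' _ (by
      rw [map_add, hgy, hcv, add_zero]), add_zero, map_add,
      LinearMap.map_smul (ψ (g • x)) (s * f y) v, hψv _ hgx, smul_zero, add_zero]
  -- invariance under transvections
  have hTr : ∀ {y : 𝕍} {χ : Dual F 𝕍} (hy : φ y = 0) (hχv : χ v = 0) (hχy : χ y = 0) {u x : 𝕍},
      φ u = 0 → φ x = 0 → χ u = 1 → χ x = 0 → ψ y x = 0 := by
    intro y χ hy hχv hχy u x hu hx hχu hχx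
    have h1 := hinv (T y χ hχy) 1 (by rw [T_smul, hχv, zero_smul, add_zero, one_smul])
      (fun x => by rw [T_smul, map_add, map_smul, hy, smul_zero, add_zero]) hu hx
    rw [T_smul, T_smul, hχu, hχx, one_smul, zero_smul, add_zero, one_mul, haddl hu hy hx] at h1
    simpa using h1
  rcases (show n = 3 ∨ n = 4 ∨ 5 ≤ n by omega) with h3 | h4 | h5
  · -- n = 3
    obtain ⟨y, hy, hwy⟩ := hN hφw hw
    have hker : LinearMap.ker φ = Submodule.span F ({v, w} : Set 𝕍) := by
      symm
      apply Submodule.eq_of_le_of_finrank_le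
      · apply Submodule.span_le.2
        rintro x (rfl | rfl)
        · exact hφv
        · exact hφw
      · have hli : LinearIndependent F ![v, w] := by
          rw [LinearIndependent.pair_iff' hv]
          intro c hc
          exact hw (Submodule.mem_span_singleton.2 ⟨c, hc⟩)
        have := finrank_span_eq_card hli
        have he : Set.range ![v, w] = {v, w} := by simp [Set.pair_comm]
        rw [he, Fintype.card_fin] at this
        rw [this]
        omega
    have hy' : y ∈ LinearMap.ker φ := hy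
    rw [hker] at hy'
    obtain ⟨s, t, rfl⟩ := mem_span_pair'.1 hy'
    have hww : ψ w w ≠ 0 := by
      intro h0
      apply hwy
      rw [map_add, map_smul, map_smul, hψv w hφw, h0, smul_zero, smul_zero, add_zero]
    have h2 : (2 : F) ≠ 0 := by
      intro h2
      apply hww
      have h1 := hmul (hψ w hφw) (hψ w hφw)
      have e1 : w + w = 0 := by rw [← two_smul F, h2, zero_smul]
      rw [e1] at h1
      have h0 : PP v φ ω 0 0 := by
        refine ⟨map_zero _, LinearMap.zero_apply _, ?_⟩
        have : T (0 : 𝕍) φ (map_zero _) * T v (0 : Dual F 𝕍) (LinearMap.zero_apply _) = 1 := by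
          apply smul_ext
          intro x
          simp [mul_smul]
        rw [this, one_smul]
      have h3 := huniq h1 h0
      have h4 := LinearMap.congr_fun h3 z
      have e2 : ψ w z + ψ w z = 0 := by rw [← two_mul, h2, zero_mul]
      simp only [LinearMap.add_apply, LinearMap.smul_apply, hφz, smul_eq_mul, mul_one, e2,
        zero_add, LinearMap.zero_apply] at h4
      exact h4
    obtain ⟨fv, hfv, hfv'⟩ := sep (swap_single hv hw)
    obtain ⟨fw, hfw, hfw'⟩ := sep hw
    obtain ⟨g, hg⟩ := exists_diag (a := (-1 : F)) hfv' (hfv w (Submodule.mem_span_singleton_self w))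
      (hfw v (Submodule.mem_span_singleton_self v)) hfw' (neg_ne_zero.2 one_ne_zero)
    have hfvw := hfv w (Submodule.mem_span_singleton_self w)
    have hfwv := hfw v (Submodule.mem_span_singleton_self v)
    have hm1 : (-1 : F)⁻¹ = -1 := by rw [inv_neg, inv_one]
    have h5 := hinv g (-1) (by
        rw [hg, hfv', hfwv, hm1, mul_zero, zero_smul, add_zero, mul_one]
        ext i
        simp only [Pi.add_apply, Pi.smul_apply, smul_eq_mul]
        ring)
      (fun x => by rw [hg, map_add, map_add, map_smul, map_smul, hφv, hφw]; simp) hφw hφw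
    have h6 : g • w = (-1 : F) • w := by
      rw [hg, hfvw, hfw', mul_zero, zero_smul, add_zero, mul_one]
      ext i
      simp only [Pi.add_apply, Pi.smul_apply, smul_eq_mul]
      ring
    rw [h6, map_smul, hsmull _ hφw hφw, smul_eq_mul] at h5
    have h7 : 2 * ψ w w = 0 := by linear_combination h5
    rcases mul_eq_zero.1 h7 with h | h
    · exact h2 h
    · exact hww h
  · -- n = 4
    have halt : ∀ {y : 𝕍}, φ y = 0 → ψ y y = 0 := by
      intro y hy
      obtain ⟨u, hu, hu'⟩ := exists_notMem_of_finrank_lt (F := F) (n := n)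
        (W := Submodule.span F ({v, y} : Set 𝕍)) (W' := LinearMap.ker φ) (by
          have := finrank_span_pair_le (F := F) v y
          omega)
      obtain ⟨χ, hχ, hχu⟩ := sep hu'
      have hχy := hχ y (Submodule.subset_span (by simp))
      exact hTr hy (hχ v (Submodule.subset_span (by simp))) hχy hu hy hχu hχy
    obtain ⟨y, hy, hwy⟩ := hN hφw hw
    have h2 : (2 : F) = 0 := by
      have h1 := halt (y := w + y) (by rw [map_add, hφw, hy, add_zero])
      rw [haddl hφw hy (by rw [map_add, hφw, hy, add_zero]), map_add, map_add, halt hφw, halt hy,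
        hsymm hy hφw, zero_add, add_zero, ← two_mul] at h1
      exact (mul_eq_zero.1 h1).resolve_right hwy
    have hyvw : y ∉ Submodule.span F ({v, w} : Set 𝕍) := by
      intro hc
      obtain ⟨s, t, rfl⟩ := mem_span_pair'.1 hc
      apply hwy
      rw [map_add, map_smul, map_smul, hψv w hφw, halt hφw, smul_zero, smul_zero, add_zero]
    have hvwy : v ∉ Submodule.span F ({w, y} : Set 𝕍) := by
      have h1 := exch hw hyvw
      -- w ∉ ⟨v, y⟩
      have h3 : v ∉ Submodule.span F ({y} : Set 𝕍) := swap_single hv (not_mem_single hyvw)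
      have h4 : w ∉ Submodule.span F ({y, v} : Set 𝕍) := by rwa [Set.pair_comm]
      have h5 := exch h3 h4
      rwa [Set.pair_comm] at h5
    have hwvy : w ∉ Submodule.span F ({v, y} : Set 𝕍) := exch hw hyvw
    obtain ⟨fv, hfv, hfv'⟩ := sep hvwy
    obtain ⟨fw, hfw, hfw'⟩ := sep hwvy
    have a1 := hfv w (Submodule.subset_span (by simp))
    have a2 := hfv y (Submodule.subset_span (by simp))
    have a3 := hfw v (Submodule.subset_span (by simp))
    have a4 := hfw y (Submodule.subset_span (by simp))
    have hone : ∀ a : F, a ≠ 0 → a = 1 := by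
      intro a ha
      obtain ⟨g, hg⟩ := exists_diag hfv' a1 a3 hfw' ha
      have h5 := hinv g a⁻¹ (by
          rw [hg, hfv', a3, mul_zero, zero_smul, add_zero, mul_one]
          ext i
          simp only [Pi.add_apply, Pi.smul_apply, smul_eq_mul]
          ring)
        (fun x => by rw [hg, map_add, map_add, map_smul, map_smul, hφv, hφw]; simp) hφw hy
      have h6 : g • w = a • w := by
        rw [hg, a1, hfw', mul_zero, zero_smul, add_zero, mul_one]
        ext i
        simp only [Pi.add_apply, Pi.smul_apply, smul_eq_mul]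
        ring
      have h7 : g • y = y := by
        rw [hg, a2, a4, mul_zero, mul_zero, zero_smul, zero_smul, add_zero, add_zero]
      rw [h6, h7, hsmull _ hφw hy] at h5
      have h8 := mul_right_cancel₀ hwy h5
      have h9 : a * a = 1 := by
        rw [h8]
        nth_rewrite 2 [← h8]
        exact inv_mul_cancel₀ ha
      have h10 : (a - 1) * (a - 1) = 0 := by linear_combination h9 - (a - 1) * h2
      have := mul_self_eq_zero.1 h10
      exact sub_eq_zero.1 this
    apply hexc
    refine ⟨h4, ?_⟩
    have : Nat.card F = Nat.card Bool := by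
      refine Nat.card_congr
        { toFun := fun a => by
            classical
            exact decide (a = 0)
          invFun := fun b => if b then 0 else 1
          left_inv := ?_
          right_inv := ?_ }
      · intro a
        by_cases h : a = 0
        · simp [h]
        · simp only [h, decide_false, Bool.false_eq_true, if_false]
          exact (hone a h).symm
      · intro b
        cases b <;> simp
    rw [this]
    simp
  · -- n ≥ 5
    obtain ⟨y, hy, hwy⟩ := hN hφw hw
    obtain ⟨u, hu, hu'⟩ := exists_notMem_of_finrank_lt (F := F) (n := n)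
        (W := Submodule.span F ({v, w, y} : Set 𝕍)) (W' := LinearMap.ker φ) (by
          have := finrank_span_triple_le (F := F) v w y
          omega)
    obtain ⟨χ, hχ, hχu⟩ := sep hu'
    have hχv := hχ v (Submodule.subset_span (by simp))
    have hχw := hχ w (Submodule.subset_span (by simp))
    have hχy := hχ y (Submodule.subset_span (by simp))
    exact hwy (hTr hφw hχv hχw hu hy hχu hχy)

end Cfsg.Agent.H74.Psl
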