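import Cfsg.Agent.H74.PslD
import Cfsg.Agent.H74.PslE

/-!
Minimal index of proper subgroups of `SL_n(F)`.
-/

set_option autoImplicit false
set_option linter.unusedSectionVars false

namespace Cfsg.Agent.H74.Psl

open Matrix Module

variable {F : Type*} [Field F] {n : ℕ}

local notation "𝕍" => Fin n → F
local notation "𝕊" => Matrix.SpecialLinearGroup (Fin n) F

/-- inverse transpose -/
def it : 𝕊 →* 𝕊 where
  toFun g := ⟨((g⁻¹ : 𝕊) : Matrix (Fin n) (Fin n) F)ᵀ, by rw [det_transpose]; exact (g⁻¹).2⟩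
  map_one' := by
    apply Subtype.ext
    simp
  map_mul' a b := by
    apply Subtype.ext
    change (((a * b)⁻¹ : 𝕊) : Matrix (Fin n) (Fin n) F)ᵀ =
      ((a⁻¹ : 𝕊) : Matrix (Fin n) (Fin n) F)ᵀ * ((b⁻¹ : 𝕊) : Matrix (Fin n) (Fin n) F)ᵀ
    rw [_root_.mul_inv_rev]
    exact Matrix.transpose_mul ((b⁻¹ : 𝕊) : Matrix (Fin n) (Fin n) F)
      ((a⁻¹ : 𝕊) : Matrix (Fin n) (Fin n) F)

theorem it_smul (g : 𝕊) (x : 𝕍) : it g • x = ((g⁻¹ : 𝕊) : Matrix (Fin n) (Fin n) F)ᵀ *ᵥ x := rfl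

/-- the functional `x ↦ v ⬝ᵥ x` -/
def dot (v : 𝕍) : Dual F 𝕍 := ∑ i, v i • LinearMap.proj i

theorem dot_apply (v x : 𝕍) : dot v x = v ⬝ᵥ x := by
  simp [dot, dotProduct]

/-- the vector of a functional -/
def vec (f : Dual F 𝕍) : 𝕍 := fun i => f (Pi.single i 1)

theorem vec_dot (v : 𝕍) : vec (dot v) = v := by
  ext i
  rw [vec, dot_apply, dotProduct_single, mul_one]

theorem dot_vec (f : Dual F 𝕍) : dot (vec f) = f := by
  apply LinearMap.pi_ext'
  intro i
  apply LinearMap.ext_ring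
  simp [dot_apply, vec]

theorem vec_apply (f : Dual F 𝕍) (x : 𝕍) : vec f ⬝ᵥ x = f x := by
  rw [← dot_apply, dot_vec]

theorem it_T (v : 𝕍) (f : Dual F 𝕍) (h : f v = 0) :
    it (T v f h) = T (vec f) (-dot v) (by
      rw [LinearMap.neg_apply, dot_apply, dotProduct_comm, vec_apply, h, neg_zero]) := by
  apply smul_ext
  intro x
  have e1 : (-dot v) x = -(v ⬝ᵥ x) := by rw [LinearMap.neg_apply, dot_apply]
  rw [it_smul, T_inv, T_smul, e1]
  apply dotProduct_eq
  intro y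
  rw [Matrix.mulVec_transpose, ← Matrix.dotProduct_mulVec]
  change x ⬝ᵥ (T v (-f) _ • y) = _
  rw [T_smul, dotProduct_add, add_dotProduct, smul_dotProduct, dotProduct_smul, vec_apply,
    LinearMap.neg_apply, dotProduct_comm x v]
  simp only [smul_eq_mul]
  ring

theorem transvection_eq {i j : Fin n} (hij : i ≠ j) (b : F) :
    SpecialLinearGroup.transvection hij b = T (Pi.single i (1 : F)) (b • LinearMap.proj j) (by
      simp [hij.symm]) := by
  apply smul_ext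
  intro x
  rw [LieClassical.SLGen.transvection_smul, T_smul]
  simp

section

variable [Finite F] {p : ℕ} [Fact p.Prime] [CharP F p]
variable {Ω : Type*} [MulAction (Matrix.SpecialLinearGroup (Fin n) F) Ω] [Finite Ω]
variable {τ : F →+ ZMod p} {X r : ℕ}

/-- the dual dichotomy -/
theorem dich_dual (hs : Small F n Ω X r) (hτ : ∀ c : F, (∀ x, τ (c * x) = 0) → c = 0)
    {f : Dual F 𝕍} (hf : f ≠ 0) (ω : Ω) :
    (∀ (v : 𝕍) (h : f v = 0), T v f h • ω = ω) ∨
      (∀ (v : 𝕍) (h : f v = 0), T v f h • ω = ω → v = 0) := by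
  let m : MulAction 𝕊 Ω := MulAction.compHom Ω it
  have hv : vec f ≠ 0 := by
    intro h
    apply hf
    rw [← dot_vec f, h]
    apply LinearMap.ext
    intro x
    rw [dot_apply, zero_dotProduct, LinearMap.zero_apply]
  have key : ∀ (v : 𝕍) (h : f v = 0), T v f h = it (T (vec f) (-dot v) (by
      rw [LinearMap.neg_apply, dot_apply, dotProduct_comm, vec_apply, h, neg_zero])) := by
    intro v h
    rw [it_T]
    apply smul_ext
    intro x
    rw [T_smul, T_smul]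
    have h1 : vec (-dot v) = -v := by
      ext i
      have := congrFun (vec_dot v) i
      rw [vec] at this
      rw [vec, LinearMap.neg_apply, this, Pi.neg_apply]
    rw [h1, LinearMap.neg_apply, dot_vec, neg_smul, smul_neg, neg_neg]
  have hd := @dich F _ _ n p _ _ Ω m _ τ X r hs hτ (vec f) hv ω
  rcases hd with hd | ⟨hd, -⟩
  · left
    intro v h
    rw [key v h]
    exact hd _ _
  · right
    intro v h hh
    rw [key v h] at hh
    have h1 := hd _ _ hh
    have h2 : dot v = 0 := neg_eq_zero.1 h1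
    rw [← vec_dot v, h2]
    ext i
    simp [vec]

/-- one transvection in `G_ω` forces `G_ω = G` -/
theorem all_of_one (hs : Small F n Ω X r) (hτ : ∀ c : F, (∀ x, τ (c * x) = 0) → c = 0)
    (ω : Ω) {v : 𝕍} (hv : v ≠ 0) {f : Dual F 𝕍} (hf : f ≠ 0) (h : f v = 0)
    (hω : T v f h • ω = ω) (g : 𝕊) : g • ω = ω := by
  have h1 : ∀ (f : Dual F 𝕍) (h : f v = 0), T v f h • ω = ω := by
    rcases dich hs hτ hv ω with h1 | ⟨h1, -⟩
    · exact h1
    · exact (hf (h1 f h hω)).elim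
  have h2 : ∀ (w : 𝕍), w ≠ 0 → ∀ (f : Dual F 𝕍) (h : f w = 0), T w f h • ω = ω := by
    intro w hw
    obtain ⟨z, hz⟩ := exists_notMem_pair (F := F) hs.hn v w
    obtain ⟨φ, hφ, hφz⟩ := sep hz
    have hφv := hφ v (Submodule.subset_span (by simp))
    have hφw := hφ w (Submodule.subset_span (by simp))
    have hφ0 : φ ≠ 0 := by
      rintro rfl
      simp at hφz
    have h3 : ∀ (v : 𝕍) (h : φ v = 0), T v φ h • ω = ω := by
      rcases dich_dual hs hτ hφ0 ω with h3 | h3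
      · exact h3
      · exact (hv (h3 v hφv (h1 φ hφv))).elim
    rcases dich hs hτ hw ω with h4 | ⟨h4, -⟩
    · exact h4
    · exact (hφ0 (h4 φ hφw (h3 w hφw))).elim
  have h5 : (⊤ : Subgroup 𝕊) ≤ MulAction.stabilizer 𝕊 ω := by
    rw [← LieClassical.SLGen.closure_transvections, Subgroup.closure_le]
    rintro _ ⟨i, j, hij, c, rfl⟩
    rw [SetLike.mem_coe, MulAction.mem_stabilizer_iff, transvection_eq]
    exact h2 _ (by simp) _ _
  exact MulAction.mem_stabilizer_iff.1 (h5 (Subgroup.mem_top g))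

/-- **small actions of `SL_n(F)` are trivial** -/
theorem fixed (hs : Small F n Ω X r) (hexc : ¬ (n = 4 ∧ Nat.card F = 2))
    [MulAction.IsPretransitive (Matrix.SpecialLinearGroup (Fin n) F) Ω] (ω : Ω) (g : 𝕊) :
    g • ω = ω := by
  obtain ⟨p, hp⟩ := CharP.exists F
  have : Fact p.Prime := ⟨CharP.char_is_prime F p⟩
  obtain ⟨τ, hτ⟩ := exists_tau F p
  by_contra hg
  have hno : ∀ (ω' : Ω) (v : 𝕍) (f : Dual F 𝕍) (h : f v = 0), T v f h • ω' = ω' →
      v = 0 ∨ f = 0 := by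
    intro ω' v f h hh
    by_contra! hc
    apply hg
    have h1 := all_of_one hs hτ ω' hc.1 hc.2 h hh
    obtain ⟨k, rfl⟩ := MulAction.exists_smul_eq 𝕊 ω' ω
    rw [h1 k, h1 g]
  have hcard : ∀ (ω' : Ω) (v : 𝕍), v ≠ 0 → (o v ω').ncard = X + 1 := by
    intro ω' v hv
    have hq : 0 < Nat.card F := zero_lt_one.trans one_lt_card
    rcases dich hs hτ hv ω' with h1 | ⟨-, h1⟩
    · exfalso
      obtain ⟨f, hf, hf0⟩ : ∃ f : Dual F 𝕍, f v = 0 ∧ f ≠ 0 := by
        obtain ⟨z, hz⟩ := exists_notMem_pair (F := F) hs.hn v v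
        obtain ⟨φ, hφ, hφz⟩ := sep hz
        refine ⟨φ, hφ v (Submodule.subset_span (by simp)), ?_⟩
        rintro rfl
        simp at hφz
      rcases hno ω' v f hf (h1 f hf) with h | h
      · exact hv h
      · exact hf0 h
    · rw [hs.hX, ← Nat.mul_succ] at h1
      exact Nat.eq_of_mul_eq_mul_left hq h1
  have htr : ∀ v : 𝕍, v ≠ 0 → ∀ ω' : Ω, ∃ (f : Dual F 𝕍) (h : f v = 0), T v f h • ω = ω' := by
    intro v hv ω'
    change ω' ∈ o v ω
    by_contra hno'
    have h1 : (o v ω ∪ o v ω').ncard ≤ Nat.card Ω := by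
      rw [← Set.ncard_univ]
      exact Set.ncard_le_ncard (Set.subset_univ _) (Set.toFinite _)
    rw [Set.ncard_union_eq (disjoint_o hno') (Set.toFinite _) (Set.toFinite _), hcard ω v hv,
      hcard ω' v hv] at h1
    have h2 := hs.hΩ
    have h3 := hs.hr
    have h4 : 1 < Nat.card F := one_lt_card
    have h5 : 1 ≤ r := by omega
    rw [h3] at h2
    nlinarith
  exact final hs.hn hexc ω (hno ω) htr

end

theorem arith {q n i : ℕ} (hq : 1 < q) (hn : 1 ≤ n) (hlt : i < (q ^ n - 1) / (q - 1)) :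
    ∃ X, q ^ n = q * X + q ∧ i * (q - 1) ≤ q * X := by
  obtain ⟨r, rfl⟩ : ∃ r, q = r + 1 := ⟨q - 1, by omega⟩
  obtain ⟨k, rfl⟩ : ∃ k, n = k + 1 := ⟨n - 1, by omega⟩
  rw [Nat.add_sub_cancel] at hlt ⊢
  have hpos : 1 ≤ (r + 1) ^ k := Nat.one_le_pow _ _ (Nat.succ_pos r)
  obtain ⟨X, hX⟩ : ∃ X, (r + 1) ^ k = X + 1 := ⟨(r + 1) ^ k - 1, by omega⟩
  have e0 : (r + 1) ^ (k + 1) = (r + 1) * X + (r + 1) := by rw [pow_succ, hX]; ring
  refine ⟨X, e0, ?_⟩
  have e1 : (r + 1) ^ (k + 1) - 1 = (r + 1) * X + r := by omega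
  rw [e1] at hlt
  have h1 : (i + 1) * r ≤ (r + 1) * X + r := by
    calc (i + 1) * r ≤ ((r + 1) * X + r) / r * r := Nat.mul_le_mul_right r hlt
      _ ≤ _ := Nat.div_mul_le_self _ _
  rw [add_mul, one_mul] at h1
  omega

/-- **Minimal index for `SL_n(F)`.** -/
theorem min_index [Fintype F] {q : ℕ} (hF : Fintype.card F = q) (hn : 3 ≤ n)
    (hexc : ¬ (n = 4 ∧ q = 2)) (H : Subgroup 𝕊) (hH : H ≠ ⊤) :
    (q ^ n - 1) / (q - 1) ≤ H.index := by
  by_contra! hlt
  have hqF : Nat.card F = q := by rw [Nat.card_eq_fintype_card, hF]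
  have hq : 1 < q := by rw [← hqF]; exact one_lt_card
  obtain ⟨X, h1, h2⟩ := arith hq (by omega) hlt
  have hs : Small F n (𝕊 ⧸ H) X (q - 1) :=
    ⟨hn, by rw [hqF]; omega, by rw [hqF]; exact h1, by rw [hqF]; exact h2⟩
  have hfix := fixed (Ω := 𝕊 ⧸ H) hs (by rw [hqF]; exact hexc) ((1 : 𝕊) : 𝕊 ⧸ H)
  apply hH
  rw [eq_top_iff]
  intro g _
  have := hfix g
  rw [MulAction.Quotient.smul_mk, smul_eq_mul, mul_one] at this
  have := QuotientGroup.eq.1 this
  simpa using this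

end Cfsg.Agent.H74.Psl
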