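import Cfsg.Agent.H56.Exc.Big

/-!
# Sylow arithmetic for big primes; `PSL₂` in characteristic `3` (helper74)

* `exists_sylow` : the Sylow congruence for a big prime `r` with `r² ∤ |G|`;
* `core_mod` : the congruence for a normal subgroup of order prime to `r`;
* `psl_no` : in `PSL₂(F)`, char `F = 3`, an element of order `3` commutes with no element of order `7`.
-/

set_option autoImplicit false

namespace Cfsg.Agent.H74.G2Small

open Subgroup Cfsg.Agent.H56.Exc

theorem exists_sylow {S : Type*} [Group S] [Finite S] {r m e : ℕ} (h : Big S r m e) (hr : r ∣ Nat.card S)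
    (hr2 : ¬ r ^ 2 ∣ Nat.card S) :
    ∃ (k c : ℕ) (x : S), orderOf x = r ∧ Nat.card ↥(normalizer (zpowers x : Set S)) = k ∧ Nat.card S = k * c ∧
      r ∣ k ∧ k ∣ e * m ∧ c % r = 1 := by
  have : Fact r.Prime := ⟨h.prime⟩
  obtain ⟨P⟩ : Nonempty (Sylow r S) := inferInstance
  have hP1 : (P : Subgroup S) ≠ ⊥ := P.ne_bot_of_dvd_card hr
  obtain ⟨x, hxP, hx, -⟩ := exists_central_orderOf P.2 hP1
  have hcard : Nat.card P = r := by
    obtain ⟨n, hn⟩ := IsPGroup.iff_card.1 P.2
    have hn1 : n < 2 := by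
      by_contra hcon
      apply hr2
      refine dvd_trans ?_ (Subgroup.card_subgroup_dvd_card (P : Subgroup S))
      rw [hn]
      exact pow_dvd_pow _ (by omega)
    have hn0 : n ≠ 0 := by
      rintro rfl
      rw [pow_zero] at hn
      exact hP1 (Subgroup.card_eq_one.1 hn)
    have : n = 1 := by omega
    rw [this, pow_one] at hn
    exact hn
  have hPx : zpowers x = (P : Subgroup S) := by
    apply Subgroup.eq_of_le_of_card_ge
    · rw [zpowers_le]; exact hxP
    · rw [Nat.card_zpowers, hx]; exact hcard.le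
  have h1 := P.card_eq_index_normalizer
  have h2 := card_sylow_modEq_one r S
  have h3 := Subgroup.card_mul_index (normalizer (zpowers x : Set S))
  have h4 : (normalizer (zpowers x : Set S)).index = Nat.card (Sylow r S) := by
    rw [hPx]; exact h1.symm
  refine ⟨_, (normalizer (zpowers x : Set S)).index, x, hx, rfl, h3.symm, ?_, h.card_normalizer_dvd hx, ?_⟩
  · have h5 : Nat.card (zpowers x) ∣ Nat.card ↥(normalizer (zpowers x : Set S)) :=
      Subgroup.card_dvd_of_le Subgroup.le_normalizer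
    rwa [Nat.card_zpowers, hx] at h5
  · rw [h4]
    have h6 : Nat.card (Sylow r S) % r = 1 % r := h2
    rw [h6]
    exact Nat.mod_eq_of_lt h.prime.one_lt

theorem core_mod {G : Type*} [Group G] [Finite G] {r m e : ℕ} (h : Big G r m e) (hr : r ∣ Nat.card G)
    (O : Subgroup G) [hOn : O.Normal] : ∃ c, c ∣ m ∧ c ∣ Nat.card O ∧ Nat.card O ≡ c [MOD r] := by
  classical
  have : Fact r.Prime := ⟨h.prime⟩
  obtain ⟨x, hx⟩ := exists_prime_orderOf_dvd_card' r hr
  let f : Function.End O := fun y => MulAut.conjNormal x y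
  have hf : ∀ n : ℕ, f ^ n = fun y => MulAut.conjNormal (x ^ n) y := by
    intro n
    induction n with
    | zero => funext y; simp; rfl
    | succ n ih =>
      rw [pow_succ, ih]
      funext y
      show MulAut.conjNormal (x ^ n) (MulAut.conjNormal x y) = MulAut.conjNormal (x ^ (n + 1)) y
      rw [pow_succ, map_mul]
      rfl
  have hf1 : f ^ r ^ 1 = 1 := by
    rw [hf, pow_one, ← hx, pow_orderOf_eq_one]
    funext y
    simp; rfl
  have : Fintype ↥O := Fintype.ofFinite _
  have h1 := Equiv.Perm.card_fixedPoints_modEq (f := f) hf1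
  let C : Subgroup G := O ⊓ centralizer {x}
  have h2 : Fintype.card f.fixedPoints = Nat.card C := by
    rw [← Nat.card_eq_fintype_card]
    refine Nat.card_congr
      { toFun := fun y => ⟨((y : ↥O) : G), (y : ↥O).2, ?_⟩
        invFun := fun z => ⟨⟨z, z.2.1⟩, ?_⟩
        left_inv := fun y => rfl
        right_inv := fun y => rfl }
    · have h3 : MulAut.conjNormal x (y : ↥O) = (y : ↥O) := y.2
      have h4 := congrArg Subtype.val h3
      rw [MulAut.conjNormal_apply, mul_inv_eq_iff_eq_mul] at h4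
      exact mem_centralizer_singleton_iff.2 h4.symm
    · show MulAut.conjNormal x (⟨z, z.2.1⟩ : ↥O) = ⟨z, z.2.1⟩
      apply Subtype.ext
      rw [MulAut.conjNormal_apply, mul_inv_eq_iff_eq_mul]
      exact (mem_centralizer_singleton_iff.1 z.2.2).symm
  rw [h2, ← Nat.card_eq_fintype_card] at h1
  exact ⟨Nat.card C, (Subgroup.card_dvd_of_le inf_le_right).trans (h.card x hx),
    Subgroup.card_dvd_of_le inf_le_left, h1⟩

section psl

open Matrix

variable {F : Type*} [Field F]

theorem cube (X : Matrix (Fin 2) (Fin 2) F) (hX : X.det = 1) :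
    X ^ 3 = (X.trace ^ 2 - 1) • X - X.trace • (1 : Matrix (Fin 2) (Fin 2) F) := by
  rw [det_fin_two] at hX
  rw [trace_fin_two, pow_succ, pow_two]
  ext i j
  fin_cases i <;> fin_cases j
  · simp [Matrix.mul_apply, Fin.sum_univ_two]
    linear_combination (-(X 0 0 + X 0 0 + X 1 1)) * hX
  · simp [Matrix.mul_apply, Fin.sum_univ_two]
    linear_combination (-(X 0 1)) * hX
  · simp [Matrix.mul_apply, Fin.sum_univ_two]
    linear_combination (-(X 1 0)) * hX
  · simp [Matrix.mul_apply, Fin.sum_univ_two]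
    linear_combination (-(X 1 1 + X 0 0 + X 1 1)) * hX

/-- a matrix commuting with a nonscalar matrix with a double eigenvalue has a double eigenvalue -/
theorem disc_zero (X T : Matrix (Fin 2) (Fin 2) F) (hc : X * T = T * X)
    (hT : (T 0 0 - T 1 1) ^ 2 + 4 * T 0 1 * T 1 0 = 0) (hns : ¬ (T 0 1 = 0 ∧ T 1 0 = 0)) :
    (X 0 0 - X 1 1) ^ 2 + 4 * X 0 1 * X 1 0 = 0 := by
  have e00 := congrFun (congrFun hc 0) 0
  have e01 := congrFun (congrFun hc 0) 1
  have e10 := congrFun (congrFun hc 1) 0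
  simp only [Matrix.mul_apply, Fin.sum_univ_two] at e00 e01 e10
  have f1 : X 0 1 * T 1 0 = T 0 1 * X 1 0 := by linear_combination e00
  have f2 : T 0 1 * (X 0 0 - X 1 1) = (T 0 0 - T 1 1) * X 0 1 := by linear_combination e01
  have f3 : T 1 0 * (X 0 0 - X 1 1) = (T 0 0 - T 1 1) * X 1 0 := by linear_combination -e10
  by_cases hq : T 0 1 = 0
  · have hu : T 1 0 ≠ 0 := fun h => hns ⟨hq, h⟩
    have h1 : T 1 0 ^ 2 * ((X 0 0 - X 1 1) ^ 2 + 4 * X 0 1 * X 1 0) = 0 := by
      linear_combination (T 1 0 * (X 0 0 - X 1 1) + (T 0 0 - T 1 1) * X 1 0) * f3 + X 1 0 ^ 2 * hT +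
        4 * X 1 0 * T 1 0 * f1
    exact (mul_eq_zero.1 h1).resolve_left (pow_ne_zero 2 hu)
  · have h1 : T 0 1 ^ 2 * ((X 0 0 - X 1 1) ^ 2 + 4 * X 0 1 * X 1 0) = 0 := by
      linear_combination (T 0 1 * (X 0 0 - X 1 1) + (T 0 0 - T 1 1) * X 0 1) * f2 + X 0 1 ^ 2 * hT -
        4 * X 0 1 * T 0 1 * f1
    exact (mul_eq_zero.1 h1).resolve_left (pow_ne_zero 2 hq)

/-- in `PSL₂(F)`, char `F = 3`, an element of order `3` commutes with no element of order `7` -/
theorem psl_no (h3 : (3 : F) = 0) (x t : ProjectiveSpecialLinearGroup (Fin 2) F) (hx : orderOf x = 7)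
    (ht : orderOf t = 3) (h : x * t = t * x) : False := by
  obtain ⟨X, rfl⟩ := QuotientGroup.mk_surjective x
  obtain ⟨T, rfl⟩ := QuotientGroup.mk_surjective t
  have hsc : ∀ A : Matrix.SpecialLinearGroup (Fin 2) F, (QuotientGroup.mk A : ProjectiveSpecialLinearGroup (Fin 2) F) = 1 ↔
      ∃ r : F, r ^ 2 = 1 ∧ A.1 = r • 1 := by
    intro A
    rw [QuotientGroup.eq_one_iff, Matrix.SpecialLinearGroup.mem_center_iff]
    constructor
    · rintro ⟨r, hr, h⟩
      exact ⟨r, by simpa using hr, by rw [← h, smul_one_eq_diagonal]; rfl⟩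
    · rintro ⟨r, hr, h⟩
      exact ⟨r, by simpa using hr, by rw [h, smul_one_eq_diagonal]; rfl⟩
  have hXd : X.1.det = 1 := X.2
  have hTd : T.1.det = 1 := T.2
  set X' : Matrix (Fin 2) (Fin 2) F := X.1 with hX'
  set T' : Matrix (Fin 2) (Fin 2) F := T.1 with hT'
  -- `T` is not scalar
  have hTn : ¬ ∃ r : F, T' = r • 1 := by
    rintro ⟨r, hr⟩
    have h1 : r ^ 2 = 1 := by
      have h2 := hTd
      rw [hr, det_smul, det_one, Fintype.card_fin, mul_one] at h2
      exact h2
    have h2 := (hsc T).2 ⟨r, h1, hr⟩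
    rw [h2, orderOf_one] at ht
    norm_num at ht
  -- the trace of `T`
  have hT3 : T'.trace ^ 2 = 1 := by
    by_contra hcon
    have h1 : (QuotientGroup.mk (T ^ 3) : ProjectiveSpecialLinearGroup (Fin 2) F) = 1 := by
      rw [QuotientGroup.mk_pow, ← ht, pow_orderOf_eq_one]
    obtain ⟨r, -, h2⟩ := (hsc _).1 h1
    rw [Matrix.SpecialLinearGroup.coe_pow, ← hT', cube T' hTd] at h2
    have h4 : (T'.trace ^ 2 - 1) • T' = (r + T'.trace) • (1 : Matrix (Fin 2) (Fin 2) F) := by
      rw [add_smul, ← h2]; abel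
    have h5 : T'.trace ^ 2 - 1 ≠ 0 := sub_ne_zero.2 hcon
    apply hTn
    refine ⟨(T'.trace ^ 2 - 1)⁻¹ * (r + T'.trace), ?_⟩
    rw [mul_smul, ← h4, smul_smul, inv_mul_cancel₀ h5, one_smul]
  -- `X T = s T X`
  have h1 : (QuotientGroup.mk (X * T * (T * X)⁻¹) : ProjectiveSpecialLinearGroup (Fin 2) F) = 1 := by
    rw [QuotientGroup.mk_mul, QuotientGroup.mk_inv, QuotientGroup.mk_mul, QuotientGroup.mk_mul, h, mul_inv_cancel]
  obtain ⟨s, hs, h2⟩ := (hsc _).1 h1
  have hXT : X' * T' = s • (T' * X') := by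
    have h4 : X * T = (X * T * (T * X)⁻¹) * (T * X) := by group
    have h5 := congrArg (fun A : Matrix.SpecialLinearGroup (Fin 2) F => A.1) h4
    simp only [Matrix.SpecialLinearGroup.coe_mul] at h5 h2
    rw [h2] at h5
    simpa using h5
  have hs1 : s = 1 := by
    have hinv : X' * (adjugate X') = 1 := by rw [mul_adjugate, hXd, one_smul]
    have h4 : (X' * T' * adjugate X').trace = T'.trace := by
      rw [Matrix.trace_mul_comm, ← Matrix.mul_assoc, adjugate_mul, hXd, one_smul, Matrix.one_mul]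
    rw [hXT, Matrix.smul_mul, Matrix.mul_assoc, hinv, Matrix.mul_one, trace_smul, smul_eq_mul] at h4
    have h5 : T'.trace ≠ 0 := by
      intro h6
      rw [h6] at hT3
      norm_num at hT3
    exact mul_right_cancel₀ h5 (by rw [h4, one_mul])
  rw [hs1, one_smul] at hXT
  -- discriminants
  have hTdisc : (T' 0 0 - T' 1 1) ^ 2 + 4 * T' 0 1 * T' 1 0 = 0 := by
    rw [trace_fin_two] at hT3
    rw [det_fin_two] at hTd
    linear_combination hT3 - 4 * hTd - h3
  have hns : ¬ (T' 0 1 = 0 ∧ T' 1 0 = 0) := by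
    rintro ⟨g1, g2⟩
    rw [g1] at hTdisc
    have g3 : T' 0 0 = T' 1 1 := by
      have : (T' 0 0 - T' 1 1) ^ 2 = 0 := by linear_combination hTdisc
      exact sub_eq_zero.1 (pow_eq_zero_iff two_ne_zero |>.1 this)
    apply hTn
    refine ⟨T' 0 0, ?_⟩
    ext i j
    fin_cases i <;> fin_cases j <;> simp [g1, g2, g3]
  have hXdisc := disc_zero X' T' hXT hTdisc hns
  have hX1 : X'.trace ^ 2 = 1 := by
    rw [trace_fin_two]
    rw [det_fin_two] at hXd
    linear_combination hXdisc + 4 * hXd + h3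
  have hX3 : (QuotientGroup.mk (X ^ 3) : ProjectiveSpecialLinearGroup (Fin 2) F) = 1 := by
    rw [hsc]
    refine ⟨-X'.trace, by rw [neg_sq, hX1], ?_⟩
    rw [Matrix.SpecialLinearGroup.coe_pow, ← hX', cube X' hXd, hX1, sub_self, zero_smul, zero_sub, neg_smul]
  rw [QuotientGroup.mk_pow] at hX3
  have h7 := orderOf_dvd_of_pow_eq_one hX3
  rw [hx] at h7
  norm_num at h7

end psl

end Cfsg.Agent.H74.G2Small
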