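import Cfsg.Agent.H325.IsoRgd
import Cfsg.Agent.KFacts.RgdFiltChev
import Cfsg.Agent.S1055

/-!
# Isolated primes of `G₂(q)` (light copy of `H325.IsoExc.piso_G2`, by helper74)
-/

set_option autoImplicit false
set_option linter.unusedSectionVars false

namespace Cfsg.Agent.H74.PisoG2

open Cfsg
open CoxeterSystem Cfsg.Agent.ChevalleyStructure.CoxeterGeom Cfsg.Agent.Tits.Roots Cfsg.Agent.Tits.Core
open Cfsg.Agent.Nodes Cfsg.Agent.Nodes.BNOf Cfsg.Agent.Nodes.RGDLib Cfsg.Agent.Nodes.RGDChev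
open Cfsg.Agent.ChevalleyStructure Cfsg.Agent.ChevalleyStructure.Elts Cfsg.Agent.ChevalleyStructure.NPerm
  Cfsg.Agent.ChevalleyStructure.CoxeterGeomTypes
open Cfsg.Agent.ParSys.RootCount
open Cfsg.Agent.H138.SqBase
open Cfsg.Agent.H325.Loc Cfsg.Agent.H325.IsoRgd Cfsg.Agent.KFacts.RgdFilt
open Cfsg.Lie

universe u

def BG : Fin 2 → Fin 2 → ℤ := ![![2, -3], ![-1, 2]]

def LG : List (Fin 2 → ℤ) := [![1, 0], ![0, 1], ![1, 1], ![2, 1], ![3, 1], ![3, 2]]

theorem posRoots_G : PosRoots BG LG.toFinset where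
  simple_mem i := List.mem_toFinset.2 (by revert i; decide +kernel)
  pos v hv := by
    have h : ∀ v ∈ LG, ∀ i, 0 ≤ v i := by decide +kernel
    exact h v (List.mem_toFinset.1 hv)
  ne h := by
    have h1 : (0 : Fin 2 → ℤ) ∉ LG := by decide +kernel
    exact h1 (List.mem_toFinset.1 h)
  perm i v hv hne := by
    have h : ∀ i, ∀ v ∈ LG, v ≠ Pi.single i 1 → refl BG i v ∈ LG := by decide +kernel
    exact List.mem_toFinset.2 (h i v (List.mem_toFinset.1 hv) hne)

theorem isType : IsType chevG2 2 CoxeterMatrix.G₂ := by simp [IsType, typeList]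

theorem exists_ne_of_card {F : Type u} [Field F] [Fintype F] (hF : 2 < Fintype.card F) :
    ∃ c : F, c ≠ 0 ∧ c ≠ 1 := by
  classical
  by_contra hcon
  push Not at hcon
  have h1 : (Finset.univ : Finset F) ⊆ {0, 1} := by
    intro c _
    by_cases h0 : c = 0
    · simp [h0]
    · simp [hcon c h0]
  have h2 := Finset.card_le_card h1
  have h3 : (({0, 1} : Finset F)).card ≤ 2 := Finset.card_le_two
  rw [Finset.card_univ] at h2
  omega

theorem nc_of {G : Type*} [Group G] (h : ¬ IsMulCommutative G) : ∃ a b : G, a * b ≠ b * a := by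
  by_contra hcon
  push Not at hcon
  exact h ⟨⟨hcon⟩⟩

section Gen

variable {D : ChevalleyDatum} {l : ℕ} {M : CoxeterMatrix (Fin l)} (hp : IsType D l M) (K : Type u)
  [Field K]

include hp

/-- the orders of the simple root groups -/
theorem card_X [Fintype K] (i : Fin l) :
    Nat.card ((XV D l K (sr i)).subgroupOf (D.group K)) = Fintype.card K := by
  have hr := simple_lt hp.inList (lt_rank hp i)
  have hmem : ∀ g : ↥(D.group K), g ∈ (XV D l K (sr i)).subgroupOf (D.group K) ↔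
      ∃ t, xG hp.inList (D.simple i) t = (g : GL D.Idx K) := by
    intro g
    rw [Subgroup.mem_subgroupOf, XV_sr hp, mem_rootSubgroup_iff hp.inList]
    exact ⟨fun ⟨t, ht⟩ => ⟨t, ht.symm⟩, fun ⟨t, ht⟩ => ⟨t, ht.symm⟩⟩
  rw [← Nat.card_eq_fintype_card]
  refine (Nat.card_congr (Equiv.ofBijective (fun t : K =>
    (⟨⟨xG hp.inList (D.simple i) t, xG_mem_group hp.inList _ t⟩, (hmem _).2 ⟨t, rfl⟩⟩ :
      (XV D l K (sr i)).subgroupOf (D.group K))) ⟨?_, ?_⟩)).symm
  · intro s t h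
    exact xG_injective hp.inList hr (congrArg
      (fun z : (XV D l K (sr i)).subgroupOf (D.group K) => ((z : ↥(D.group K)) : GL D.Idx K)) h)
  · rintro ⟨u, hu⟩
    obtain ⟨t, ht⟩ := (hmem u).1 hu
    exact ⟨t, Subtype.ext (Subtype.ext ht)⟩

/-- the elements of the torus have order dividing `|K| - 1` -/
theorem diag_pow [Fintype K] {g : GL D.Idx K} (hg : g ∈ D.diagonalSubgroup K) : g ^ (Fintype.card K - 1) = 1 := by
  obtain ⟨χ, hχ⟩ := HMatDiagAll.mem_torus.1 (HMatDiagAll.diagonalSubgroup_le_torus hp.inList hg)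
  have hne : ∀ s, χ s ≠ 0 := by
    intro s h0
    have h1 := g.isUnit
    rw [hχ, Matrix.isUnit_iff_isUnit_det, Matrix.det_diagonal, isUnit_iff_ne_zero, Finset.prod_ne_zero_iff] at h1
    exact h1 (Sum.inr s) (Finset.mem_univ _) h0
  apply Units.ext
  rw [Units.val_pow_eq_pow_val, hχ, Matrix.diagonal_pow, Units.val_one, ← Matrix.diagonal_one]
  congr 1
  funext i
  rcases i with i | i
  · exact one_pow _
  · exact FiniteField.pow_card_sub_one_eq_one _ (hne i)

theorem piso_chev [Fintype K] {p : ℕ} [Fact p.Prime] [CharP K p]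
    (hs : IsSimpleGroup ↥(D.group K) ∧ ¬ IsMulCommutative ↥(D.group K)) (hF : HasFilt p ↥(D.group K))
    {A₀ : Fin l → Fin l → ℤ} (hA : cartanOf D l = A₀) {L : List (Fin l → ℤ)}
    (hR : PosRoots A₀ L.toFinset) (hN : L.Nodup) {d : ℕ} (hd : 3 ≤ d)
    {Tb : List (ℕ × ℕ)} (hTb : (L.map fun v => (supp v, 1)) = Tb) {bad : List ℕ} (hchk : chk l d Tb bad = true)
    (hbad : ∀ J : Finset (Fin l), mJ J ∈ bad →
      ∃ J₁ : Finset (Fin l), J₁ ⊆ J ∧ J₁.Nonempty ∧ J₁ ≠ J ∧ ∀ a ∈ J₁, ∀ b ∈ J, b ∉ J₁ → M a b = 2)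
    {u : ℕ} (hu : H436.Prim (Fintype.card K) d u) : PIso p u ↥(D.group K) := by
  have hW : Finite M.Group := finite_W hp M.toCoxeterSystem
  have hs1 := hs.1
  subst hA
  refine piso_of_tab (nc_of hs.2) hF (rgd (K := K) hp M.toCoxeterSystem p) (G1_eq_top hp _) hR hN
    (len := fun _ => 1) (fun _ _ _ _ => rfl) (Fintype.one_lt_card (α := K)) ?_ (fun i => ?_) hu (by omega) ?_
    hTb hchk hbad
  · obtain ⟨k, hk⟩ := FiniteField.card K p
    rw [hk.2]
    exact dvd_pow_self p k.ne_zero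
  · rw [pow_one]
    exact card_X hp K i
  · refine not_dvd_of_pow (e := 1) hu (by intro h1; have := Nat.le_of_dvd one_pos h1; omega) ?_
    intro t ht
    rw [pow_one]
    apply Subtype.ext
    rw [SubgroupClass.coe_pow]
    exact diag_pow hp K (Subgroup.mem_subgroupOf.1 ht)

end Gen

variable {F : Type u} [Field F] [Fintype F] {p : ℕ} [Fact p.Prime] [CharP F p] {w : ℕ}

theorem piso_G2 (hF : 2 < Fintype.card F) {d : ℕ} (hd : d = 3 ∨ d = 6) (hu : H436.Prim (Fintype.card F) d w) :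
    PIso p w ↥(chevG2.group F) := by
  refine piso_chev (p := p) isType F (Cfsg.Agent.S1055.result (exists_ne_of_card hF))
    (Cfsg.Agent.KFacts.RgdFiltChev.hasFilt_G2 F p)
    (A₀ := BG) (by decide +kernel)
    (L := LG) posRoots_G (by decide +kernel) (d := d) (by omega) rfl (bad := [])
    ?_ (fun J hJ => absurd hJ (by simp)) hu
  rcases hd with rfl | rfl
  · decide +kernel
  · decide +kernel

end Cfsg.Agent.H74.PisoG2
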