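import Cfsg.Agent.H74.Base

/-!
Isometry group `Sp B` of an alternating form and its Siegel elements
`E v w c : x ↦ x + (x,v) w + (x,w) v + c (x,v) v` for `(v,w) = 0`.
-/

set_option autoImplicit false
set_option linter.unusedSectionVars false
set_option linter.unusedSimpArgs false

namespace Cfsg.Agent.H74.Psp

open Module

variable {F V : Type*} [Field F] [AddCommGroup V] [Module F V]

/-- nondegenerate alternating forms -/
structure Symp (B : V →ₗ[F] V →ₗ[F] F) : Prop where
  alt : ∀ x, B x x = 0
  nd : ∀ x, (∀ y, B x y = 0) → x = 0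

/-- the isometry group -/
def Sp (B : V →ₗ[F] V →ₗ[F] F) : Subgroup (V ≃ₗ[F] V) where
  carrier := {g | ∀ x y, B (g x) (g y) = B x y}
  mul_mem' := by
    intro a b ha hb x y
    change B (a (b x)) (a (b y)) = B x y
    rw [ha, hb]
  one_mem' := fun x y => rfl
  inv_mem' := by
    intro a ha x y
    have := ha (a⁻¹ x) (a⁻¹ y)
    rw [← LinearEquiv.mul_apply, ← LinearEquiv.mul_apply, mul_inv_cancel] at this
    exact this.symm

variable {B : V →ₗ[F] V →ₗ[F] F}

theorem smul_def' (g : Sp B) (x : V) : g • x = (g : V ≃ₗ[F] V) x := rfl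

theorem Sp.ext' {g h : Sp B} (H : ∀ x : V, g • x = h • x) : g = h :=
  Subtype.ext (LinearEquiv.ext H)

theorem B_smul_smul (g : Sp B) (x y : V) : B (g • x) (g • y) = B x y := g.2 x y

theorem B_smul_left (g : Sp B) (x y : V) : B (g • x) y = B x (g⁻¹ • y) := by
  rw [← B_smul_smul g⁻¹ (g • x) y, inv_smul_smul]

theorem smul_fsmul (g : Sp B) (c : F) (x : V) : g • (c • x) = c • (g • x) :=
  map_smul (g : V ≃ₗ[F] V) c x

theorem smul_add' (g : Sp B) (x y : V) : g • (x + y) = g • x + g • y := smul_add g x y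

section

variable (hB : Symp B)
include hB

theorem skew (x y : V) : B x y = - B y x := by
  have := hB.alt (x + y)
  simp only [map_add, LinearMap.add_apply, hB.alt, zero_add, add_zero] at this
  exact eq_neg_of_add_eq_zero_right this

theorem orth_symm {x y : V} (h : B x y = 0) : B y x = 0 := by
  rw [skew hB, h, neg_zero]

end

/-- `E v w c` -/
noncomputable def Efun (B : V →ₗ[F] V →ₗ[F] F) (v w : V) (c : F) : V →ₗ[F] V :=
  LinearMap.id + (B.flip v).smulRight w + (B.flip w).smulRight v + (c • B.flip v).smulRight v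

theorem Efun_apply (v w : V) (c : F) (x : V) :
    Efun B v w c x = x + B x v • w + B x w • v + (c * B x v) • v := by
  simp [Efun]

theorem Efun_comp (hB : Symp B) {v w w' : V} (h : B v w = 0) (h' : B v w' = 0) (c c' : F) :
    Efun B v w c ∘ₗ Efun B v w' c' = Efun B v (w + w') (c + c' + B w' w) := by
  have h1 : B w' v = 0 := orth_symm hB h'
  apply LinearMap.ext; intro x
  simp only [LinearMap.comp_apply, Efun_apply, map_add, map_smul, LinearMap.add_apply,
    LinearMap.smul_apply, smul_eq_mul, hB.alt, h, h1, mul_zero, add_zero]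
  module

theorem Efun_zero (v : V) : Efun B v 0 0 = LinearMap.id := by
  apply LinearMap.ext; intro x
  simp [Efun_apply]

open Classical in
/-- the Siegel element `x ↦ x + (x,v) w + (x,w) v + c (x,v) v` (junk value `1`) -/
noncomputable def E (B : V →ₗ[F] V →ₗ[F] F) (v w : V) (c : F) : Sp B :=
  if h : Symp B ∧ B v w = 0 then
    ⟨LinearEquiv.ofLinearMap (Efun B v w c) (Efun B v (-w) (-c))
      (by
        rw [Efun_comp h.1 h.2 (by rw [map_neg, h.2, neg_zero])]
        rw [map_neg, LinearMap.neg_apply, h.1.alt, neg_zero, add_zero, add_neg_cancel,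
          add_neg_cancel, Efun_zero])
      (by
        rw [Efun_comp h.1 (by rw [map_neg, h.2, neg_zero]) h.2]
        rw [map_neg, h.1.alt, neg_zero, add_zero, neg_add_cancel, neg_add_cancel, Efun_zero]), by
      intro x y
      change B (Efun B v w c x) (Efun B v w c y) = B x y
      have h1 := orth_symm h.1 h.2
      simp only [Efun_apply, map_add, map_smul, LinearMap.add_apply, LinearMap.smul_apply,
        smul_eq_mul, h.1.alt, h.2, h1, skew h.1 v y, skew h.1 w y]
      ring⟩
  else 1

theorem E_smul (hB : Symp B) {v w : V} (h : B v w = 0) (c : F) (x : V) :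
    E B v w c • x = x + B x v • w + B x w • v + (c * B x v) • v := by
  rw [E, dif_pos ⟨hB, h⟩]
  exact Efun_apply v w c x

/-- the transvection `x ↦ x + a (x,v) v` -/
noncomputable def t (B : V →ₗ[F] V →ₗ[F] F) (v : V) (a : F) : Sp B := E B v 0 a

theorem t_smul (hB : Symp B) (v : V) (a : F) (x : V) :
    t B v a • x = x + (a * B x v) • v := by
  rw [t, E_smul hB (map_zero _)]
  simp

theorem E_zero (v : V) (a : F) : E B v 0 a = t B v a := rfl

theorem E_mul (hB : Symp B) {v w w' : V} (h : B v w = 0) (h' : B v w' = 0) (c c' : F) :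
    E B v w c * E B v w' c' = E B v (w + w') (c + c' + B w' w) := by
  apply Sp.ext'; intro x
  have h1 : B w' v = 0 := orth_symm hB h'
  rw [mul_smul, E_smul hB h', E_smul hB h, E_smul hB (by rw [map_add, h, h', add_zero])]
  simp only [map_add, map_smul, LinearMap.add_apply,
    LinearMap.smul_apply, smul_eq_mul, hB.alt, h, h1, mul_zero, add_zero]
  module

theorem E_one (hB : Symp B) (v : V) : E B v 0 0 = 1 := by
  apply Sp.ext'; intro x
  rw [E_smul hB (map_zero _)]
  simp

theorem E_inv (hB : Symp B) {v w : V} (h : B v w = 0) (c : F) :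
    (E B v w c)⁻¹ = E B v (-w) (-c) := by
  rw [inv_eq_iff_mul_eq_one, E_mul hB h (by rw [map_neg, h, neg_zero])]
  rw [map_neg, LinearMap.neg_apply, hB.alt, neg_zero, add_zero, add_neg_cancel,
    add_neg_cancel, E_one hB]

theorem t_mul (hB : Symp B) (v : V) (a a' : F) : t B v a * t B v a' = t B v (a + a') := by
  rw [t, t, E_mul hB (map_zero _) (map_zero _)]
  simp [t]

theorem t_zero (hB : Symp B) (v : V) : t B v 0 = 1 := E_one hB v

theorem t_inv (hB : Symp B) (v : V) (a : F) : (t B v a)⁻¹ = t B v (-a) := by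
  rw [t, E_inv hB (map_zero _), neg_zero]; rfl

theorem B_inv_left (g : Sp B) (x y : V) : B (g⁻¹ • x) y = B x (g • y) := by
  rw [← B_smul_smul g (g⁻¹ • x) y, smul_inv_smul]

/-- conjugation -/
theorem conj_E (hB : Symp B) (g : Sp B) {v w : V} (h : B v w = 0) (c : F) :
    g * E B v w c * g⁻¹ = E B (g • v) (g • w) c := by
  apply Sp.ext'; intro x
  rw [mul_smul, mul_smul, E_smul hB h, E_smul hB (by rw [B_smul_smul, h])]
  simp only [smul_add, smul_fsmul, smul_inv_smul]
  simp only [B_inv_left]

theorem conj_t (hB : Symp B) (g : Sp B) (v : V) (c : F) :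
    g * t B v c * g⁻¹ = t B (g • v) c := by
  rw [t, conj_E hB g (map_zero _), smul_zero]; rfl

theorem E_smul_v (hB : Symp B) {v w : V} (h : B v w = 0) (c : F) :
    E B v w c • v = v := by
  rw [E_smul hB h]; simp [hB.alt, h]

theorem E_smul_orth (hB : Symp B) {v w : V} (h : B v w = 0) (c : F) {x : V} (hx : B v x = 0) :
    E B v w c • x = x + B x w • v := by
  rw [E_smul hB h]; simp [orth_symm hB hx]

theorem t_smul_orth (hB : Symp B) (v : V) (c : F) {x : V} (hx : B v x = 0) :
    t B v c • x = x := by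
  rw [t_smul hB]; simp [orth_symm hB hx]

theorem E_add_v (hB : Symp B) {v w : V} (h : B v w = 0) (a c : F) :
    E B v (w + a • v) c = E B v w (c + 2 * a) := by
  apply Sp.ext'; intro x
  rw [E_smul hB h, E_smul hB (by simp [h, hB.alt])]
  simp only [map_add, map_smul, smul_eq_mul]
  module

theorem E_scale (hB : Symp B) {v w : V} (h : B v w = 0) (s c : F) :
    E B (s • v) w c = E B v (s • w) (s ^ 2 * c) := by
  apply Sp.ext'; intro x
  rw [E_smul hB (by simp [h]), E_smul hB (by simp [h])]
  simp only [map_add, map_smul, smul_eq_mul]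
  module

theorem t_scale (hB : Symp B) (v : V) (s c : F) : t B (s • v) c = t B v (s ^ 2 * c) := by
  rw [t, E_scale hB (map_zero _), smul_zero]; rfl

theorem E_comm0 (hB : Symp B) {v w : V} (h : B v w = 0) : E B v w 0 = E B w v 0 := by
  apply Sp.ext'; intro x
  rw [E_smul hB h, E_smul hB (orth_symm hB h)]
  module

theorem t_add (hB : Symp B) {v w : V} (h : B v w = 0) (a : F) :
    t B (v + w) a = t B v a * t B w a * E B v (a • w) 0 := by
  apply Sp.ext'; intro x
  have h1 := orth_symm hB h
  rw [mul_smul, mul_smul, E_smul hB (by simp [h]), t_smul hB, t_smul hB, t_smul hB]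
  simp only [map_add, map_smul, smul_eq_mul, LinearMap.add_apply, LinearMap.smul_apply, h, h1,
    hB.alt, mul_zero, add_zero]
  module

theorem E_commutator (hB : Symp B) {v w w' : V} (h : B v w = 0) (h' : B v w' = 0) (c c' : F) :
    E B v w c * E B v w' c' * (E B v w c)⁻¹ * (E B v w' c')⁻¹ = t B v (2 * B w' w) := by
  rw [E_inv hB h, E_inv hB h', E_mul hB h h', E_mul hB (by simp [h, h']) (by simp [h]),
    E_mul hB (by simp [h, h']) (by simp [h']), t]
  congr 1
  · abel
  · simp only [map_add, map_neg, LinearMap.add_apply, LinearMap.neg_apply, hB.alt,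
      skew hB w w']
    ring

/-- `-1` -/
def negOne (B : V →ₗ[F] V →ₗ[F] F) : Sp B :=
  ⟨LinearEquiv.neg F, fun x y => by simp⟩

@[simp] theorem negOne_smul (x : V) : negOne B • x = -x := rfl

noncomputable def hfun (B : V →ₗ[F] V →ₗ[F] F) (v v' : V) (s : F) : V →ₗ[F] V :=
  LinearMap.id + ((s - 1) • B.flip v').smulRight v - ((s⁻¹ - 1) • B.flip v).smulRight v'

theorem hfun_apply (v v' : V) (s : F) (x : V) :
    hfun B v v' s x = x + ((s - 1) * B x v') • v - ((s⁻¹ - 1) * B x v) • v' := by
  simp [hfun]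

theorem hfun_comp (hB : Symp B) {v v' : V} (h : B v v' = 1) {s : F} (hs : s ≠ 0) :
    hfun B v v' s ∘ₗ hfun B v v' s⁻¹ = LinearMap.id := by
  have h1 : B v' v = -1 := by rw [skew hB, h]
  have e1 : ∀ x : V, hfun B v v' s (hfun B v v' s⁻¹ x) = x := by
    intro x
    simp only [hfun_apply, map_add, map_sub, map_smul, LinearMap.add_apply, LinearMap.sub_apply,
      LinearMap.smul_apply, smul_eq_mul, hB.alt, h, h1, mul_zero, mul_one, inv_inv]
    match_scalars
    · ring
    · field_simp
      ring
    · field_simp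
      ring
  apply LinearMap.ext; intro x
  exact e1 x

open Classical in
/-- the torus element `v ↦ s v`, `v' ↦ s⁻¹ v'`, identity on the orthogonal of `v, v'` -/
noncomputable def hh (B : V →ₗ[F] V →ₗ[F] F) (v v' : V) (s : F) : Sp B :=
  if h : Symp B ∧ B v v' = 1 ∧ s ≠ 0 then
    ⟨LinearEquiv.ofLinearMap (hfun B v v' s) (hfun B v v' s⁻¹) (hfun_comp h.1 h.2.1 h.2.2)
      (by
        have := hfun_comp h.1 h.2.1 (inv_ne_zero h.2.2)
        rwa [inv_inv] at this), by
      intro x y
      change B (hfun B v v' s x) (hfun B v v' s y) = B x y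
      have h1 : B v' v = -1 := by rw [skew h.1, h.2.1]
      have hs := h.2.2
      simp only [hfun_apply, map_add, map_sub, map_smul, LinearMap.add_apply,
        LinearMap.sub_apply, LinearMap.smul_apply, smul_eq_mul, h.1.alt, h.2.1, h1,
        skew h.1 v y, skew h.1 v' y]
      field_simp
      ring⟩
  else 1

theorem hh_smul (hB : Symp B) {v v' : V} (h : B v v' = 1) {s : F} (hs : s ≠ 0) (x : V) :
    hh B v v' s • x = x + ((s - 1) * B x v') • v - ((s⁻¹ - 1) * B x v) • v' := by
  rw [hh, dif_pos ⟨hB, h, hs⟩]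
  exact hfun_apply v v' s x

theorem hh_smul_v (hB : Symp B) {v v' : V} (h : B v v' = 1) {s : F} (hs : s ≠ 0) :
    hh B v v' s • v = s • v := by
  rw [hh_smul hB h hs, h, hB.alt]; module

theorem hh_smul_v' (hB : Symp B) {v v' : V} (h : B v v' = 1) {s : F} (hs : s ≠ 0) :
    hh B v v' s • v' = s⁻¹ • v' := by
  rw [hh_smul hB h hs, skew hB v' v, h, hB.alt]; module

theorem hh_smul_orth (hB : Symp B) {v v' : V} (h : B v v' = 1) {s : F} (hs : s ≠ 0) {x : V}
    (h1 : B v x = 0) (h2 : B v' x = 0) : hh B v v' s • x = x := by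
  rw [hh_smul hB h hs, orth_symm hB h1, orth_symm hB h2]; simp

theorem conj_hh (hB : Symp B) (g : Sp B) {v v' : V} (h : B v v' = 1) {s : F} (hs : s ≠ 0) :
    g * hh B v v' s * g⁻¹ = hh B (g • v) (g • v') s := by
  apply Sp.ext'; intro x
  rw [mul_smul, mul_smul, hh_smul hB h hs, hh_smul hB (by rw [B_smul_smul, h]) hs]
  simp only [smul_add, smul_sub, smul_fsmul, smul_inv_smul, B_inv_left]

end Cfsg.Agent.H74.Psp
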