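import Mathlib

/-!
Counting tools for minimal indices: orbit counting through the annihilators in a dual space.
-/

set_option autoImplicit false

namespace Cfsg.Agent.H74

/-- orbit-stabiliser for a homomorphism `φ : M →* G` -/
theorem orbit_card {M G Ω : Type*} [Group M] [Group G] [MulAction G Ω] [Finite M]
    (φ : M →* G) (ω : Ω) :
    (Set.range fun m : M => φ m • ω).ncard * Nat.card {m : M // φ m • ω = ω} = Nat.card M := by
  let _ : MulAction M Ω := MulAction.compHom Ω φ
  have h1 : (Set.range fun m : M => φ m • ω) = MulAction.orbit M ω := rfl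
  have h2 : {m : M // φ m • ω = ω} = ↥(MulAction.stabilizer M ω) := rfl
  rw [h1, h2, ← Nat.card_coe_set_eq, ← Nat.card_prod]
  exact Nat.card_congr (MulAction.orbitProdStabilizerEquivGroup M ω)

/-- double counting of the pairs `(ω', d)`, `d ∈ A ω'` over one orbit -/
theorem count {P Ω D : Type*} [Group P] [MulAction P Ω] [MulAction P D] [Finite Ω] [Finite D]
    (A : Ω → Set D) (hA : ∀ (g : P) (ω : Ω) (d : D), d ∈ A ω → g • d ∈ A (g • ω)) (D0 : Set D)
    (h0 : ∀ g : P, ∀ d ∈ D0, g • d ∈ D0) (htr : ∀ d ∈ D0, ∀ d' ∈ D0, ∃ g : P, g • d = d')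
    (ω : Ω) (d : D) (hd : d ∈ D0) :
    (MulAction.orbit P ω).ncard * (A ω ∩ D0).ncard =
      D0.ncard * {ω' | ω' ∈ MulAction.orbit P ω ∧ d ∈ A ω'}.ncard := by
  classical
  have := Fintype.ofFinite Ω
  have := Fintype.ofFinite D
  have hA' : ∀ (g : P) (ω : Ω) (d : D), g • d ∈ A (g • ω) ↔ d ∈ A ω := by
    intro g ω d
    refine ⟨fun h => ?_, hA g ω d⟩
    have := hA g⁻¹ _ _ h
    rwa [inv_smul_smul, inv_smul_smul] at this
  have h0' : ∀ (g : P) (d : D), g • d ∈ D0 ↔ d ∈ D0 := by
    intro g d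
    refine ⟨fun h => ?_, h0 g d⟩
    have := h0 g⁻¹ _ h
    rwa [inv_smul_smul] at this
  have hc1 : ∀ ω' ∈ MulAction.orbit P ω, (A ω' ∩ D0).ncard = (A ω ∩ D0).ncard := by
    rintro _ ⟨g, rfl⟩
    have : A (g • ω) ∩ D0 = (fun x => g • x) '' (A ω ∩ D0) := by
      ext x
      simp only [Set.mem_inter_iff, Set.mem_image]
      constructor
      · rintro ⟨h1, h2⟩
        refine ⟨g⁻¹ • x, ⟨?_, ?_⟩, smul_inv_smul g x⟩
        · rw [← hA' g, smul_inv_smul]; exact h1
        · rw [← h0' g, smul_inv_smul]; exact h2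
      · rintro ⟨y, ⟨h1, h2⟩, rfl⟩
        exact ⟨(hA' g ω y).2 h1, (h0' g y).2 h2⟩
    rw [this]
    exact Set.ncard_image_of_injective _ (MulAction.injective g)
  have hc2 : ∀ d' ∈ D0, {ω' | ω' ∈ MulAction.orbit P ω ∧ d' ∈ A ω'}.ncard =
      {ω' | ω' ∈ MulAction.orbit P ω ∧ d ∈ A ω'}.ncard := by
    intro d' hd'
    obtain ⟨g, rfl⟩ := htr d hd d' hd'
    have : {ω' | ω' ∈ MulAction.orbit P ω ∧ g • d ∈ A ω'} =
        (fun x => g • x) '' {ω' | ω' ∈ MulAction.orbit P ω ∧ d ∈ A ω'} := by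
      ext x
      simp only [Set.mem_ofPred_eq, Set.mem_image]
      constructor
      · rintro ⟨h1, h2⟩
        refine ⟨g⁻¹ • x, ⟨?_, ?_⟩, smul_inv_smul g x⟩
        · exact (MulAction.mem_orbit_of_mem_orbit g⁻¹ h1)
        · rw [← hA' g, smul_inv_smul]; exact h2
      · rintro ⟨y, ⟨h1, h2⟩, rfl⟩
        exact ⟨MulAction.mem_orbit_of_mem_orbit g h1, (hA' g y d).2 h2⟩
    rw [this]
    exact Set.ncard_image_of_injective _ (MulAction.injective g)
  have key := Finset.sum_card_bipartiteAbove_eq_sum_card_bipartiteBelow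
    (s := (MulAction.orbit P ω).toFinset) (t := D0.toFinset) (fun ω' d' => d' ∈ A ω')
  have e1 : ∀ ω' ∈ (MulAction.orbit P ω).toFinset,
      (Finset.bipartiteAbove (fun ω' d' => d' ∈ A ω') D0.toFinset ω').card =
        (A ω ∩ D0).ncard := by
    intro ω' hω'
    rw [← hc1 ω' (by simpa using hω'), Set.ncard_eq_toFinset_card']
    congr 1
    ext x
    simp [Finset.bipartiteAbove, and_comm]
  have e2 : ∀ d' ∈ D0.toFinset,
      (Finset.bipartiteBelow (fun ω' d' => d' ∈ A ω') (MulAction.orbit P ω).toFinset d').card =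
        {ω' | ω' ∈ MulAction.orbit P ω ∧ d ∈ A ω'}.ncard := by
    intro d' hd'
    rw [← hc2 d' (by simpa using hd'), Set.ncard_eq_toFinset_card']
    congr 1
    ext x
    simp [Finset.bipartiteBelow]
  rw [Finset.sum_congr rfl e1, Finset.sum_congr rfl e2, Finset.sum_const, Finset.sum_const,
    smul_eq_mul, smul_eq_mul] at key
  rw [Set.ncard_eq_toFinset_card' (MulAction.orbit P ω), Set.ncard_eq_toFinset_card' D0]
  exact key

/-- annihilators under a pairing into `ZMod p`, module version -/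
theorem dual_card_aux {p : ℕ} [Fact p.Prime] {V W : Type*} [AddCommGroup V] [AddCommGroup W]
    [Finite V] [Finite W] [Module (ZMod p) V] [Module (ZMod p) W]
    (B : W →ₗ[ZMod p] Module.Dual (ZMod p) V) (hBi : Function.Injective B)
    (S' : Submodule (ZMod p) W) :
    {x : V | ∀ s ∈ S', B s x = 0}.ncard * Nat.card S' = Nat.card V ∧
      ∀ w, (∀ x, (∀ s ∈ S', B s x = 0) → B w x = 0) → w ∈ S' := by
  let Φ : Subspace (ZMod p) (Module.Dual (ZMod p) V) := S'.map B
  have hA : {x : V | ∀ s ∈ S', B s x = 0} = (Φ.dualCoannihilator : Set V) := by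
    ext x
    simp only [Set.mem_ofPred_eq, SetLike.mem_coe, Submodule.mem_dualCoannihilator]
    constructor
    · rintro h _ ⟨s, hs, rfl⟩
      exact h s hs
    · intro h s hs
      exact h _ ⟨s, hs, rfl⟩
  have hfin : Module.Finite (ZMod p) V := Module.Finite.of_finite
  have hcS : Nat.card S' = Nat.card Φ :=
    Nat.card_congr (Submodule.equivMapOfInjective B hBi S').toEquiv
  constructor
  · rw [hA, hcS, ← Nat.card_coe_set_eq]
    change Nat.card Φ.dualCoannihilator * Nat.card Φ = Nat.card V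
    rw [Module.natCard_eq_pow_finrank (K := ZMod p) (V := Φ.dualCoannihilator),
      Module.natCard_eq_pow_finrank (K := ZMod p) (V := Φ),
      Module.natCard_eq_pow_finrank (K := ZMod p) (V := V), ← pow_add, add_comm,
      Subspace.finrank_add_finrank_dualCoannihilator_eq]
  · intro w hw
    have h1 : B w ∈ Φ.dualCoannihilator.dualAnnihilator := by
      rw [Submodule.mem_dualAnnihilator]
      intro x hx
      refine hw x ?_
      have : x ∈ {x : V | ∀ s ∈ S', B s x = 0} := by rw [hA]; exact hx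
      exact this
    rw [Subspace.dualCoannihilator_dualAnnihilator_eq] at h1
    obtain ⟨s, hs, he⟩ := h1
    rw [← hBi he]
    exact hs

theorem exists_lin {p : ℕ} [Fact p.Prime] {V W : Type*} [AddCommGroup V] [AddCommGroup W]
    [Module (ZMod p) V] [Module (ZMod p) W] (β : W →+ V →+ ZMod p) :
    ∃ B : W →ₗ[ZMod p] Module.Dual (ZMod p) V, ∀ w x, B w x = β w x := by
  let B0 : W →+ (V →ₗ[ZMod p] ZMod p) :=
    AddMonoidHom.mk' (fun w => AddMonoidHom.toZModLinearMap p (β w)) (by
      intro a b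
      apply LinearMap.ext; intro x
      simp)
  exact ⟨AddMonoidHom.toZModLinearMap p B0, fun w x => rfl⟩

/-- annihilators under a pairing into `ZMod p` -/
theorem dual_card {p : ℕ} [Fact p.Prime] {V W : Type*} [AddCommGroup V] [AddCommGroup W]
    [Finite V] [Finite W] (hV : ∀ x : V, p • x = 0) (hW : ∀ x : W, p • x = 0)
    (β : W →+ V →+ ZMod p) (hβ : ∀ w, (∀ x, β w x = 0) → w = 0) (S : AddSubgroup W) :
    {x : V | ∀ s ∈ S, β s x = 0}.ncard * Nat.card S = Nat.card V ∧
      ∀ w, (∀ x, (∀ s ∈ S, β s x = 0) → β w x = 0) → w ∈ S := by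
  obtain ⟨m1⟩ : Nonempty (Module (ZMod p) V) := ⟨AddCommGroup.zmodModule hV⟩
  obtain ⟨m2⟩ : Nonempty (Module (ZMod p) W) := ⟨AddCommGroup.zmodModule hW⟩
  obtain ⟨B, hB⟩ := exists_lin β
  have hBi : Function.Injective B := by
    rw [injective_iff_map_eq_zero]
    intro w hw
    refine hβ w fun x => ?_
    rw [← hB, hw]; rfl
  have := dual_card_aux B hBi (AddSubgroup.toZModSubmodule p S)
  simp only [hB] at this
  exact this

/-- a nondegenerate additive functional on a finite field -/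
theorem exists_tau (F : Type*) [Field F] [Finite F] (p : ℕ) [Fact p.Prime] [CharP F p] :
    ∃ τ : F →+ ZMod p, ∀ c : F, (∀ x, τ (c * x) = 0) → c = 0 := by
  let _ : Algebra (ZMod p) F := ZMod.algebra F p
  obtain ⟨f, hf⟩ : ∃ f : Module.Dual (ZMod p) F, f 1 ≠ 0 := by
    by_contra! h
    exact one_ne_zero ((Module.forall_dual_apply_eq_zero_iff (ZMod p) (1 : F)).1 h)
  refine ⟨f.toAddMonoidHom, fun c hc => ?_⟩
  by_contra h
  apply hf
  have := hc c⁻¹
  rw [mul_inv_cancel₀ h] at this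
  exact this

end Cfsg.Agent.H74
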