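import Cfsg.Agent.H273.PalfyKP
import Cfsg.Agent.H734.Symp

/-!
S4921, the endgame: linear groups with unique Sylow `s`-subgroups.
-/

set_option autoImplicit false
set_option linter.unusedSectionVars false

namespace Cfsg.Agent.H74.EndGame

open Cfsg.Agent.H273.Palfy Cfsg.Agent.H273.PalfyKP

universe u v

/-- comparison of `t`-parts -/
theorem num_aux {N t c n a m : ℕ} (ht : 2 ≤ t) (hcn : c < n) (ham : a < m)
    (h1 : N * (t ^ c - 1) = t ^ n - 1) (h2 : N * (t ^ a - 1) = t ^ m - 1) : a ≤ c := by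
  have hpos : ∀ i, 1 ≤ t ^ i := fun i => Nat.one_le_pow _ _ (by omega)
  have e1 : N * t ^ c + 1 = t ^ n + N := by
    have := hpos c
    have := hpos n
    have h3 : N * t ^ c = N * (t ^ c - 1) + N := by
      rw [← Nat.mul_succ]
      congr 1
      omega
    omega
  have e2 : N * t ^ a + 1 = t ^ m + N := by
    have := hpos a
    have := hpos m
    have h3 : N * t ^ a = N * (t ^ a - 1) + N := by
      rw [← Nat.mul_succ]
      congr 1
      omega
    omega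
  by_contra hca
  push Not at hca
  -- modulo `t ^ (c + 1)`
  obtain ⟨i, hi⟩ : ∃ i, a = c + 1 + i := ⟨a - (c + 1), by omega⟩
  obtain ⟨j, hj⟩ : ∃ j, m = c + 1 + j := ⟨m - (c + 1), by omega⟩
  obtain ⟨k, hk⟩ : ∃ k, n = c + 1 + k := ⟨n - (c + 1), by omega⟩
  have h3 : (t : ℤ) ^ (c + 1) ∣ (N : ℤ) - 1 := by
    have h4 : (N : ℤ) - 1 = N * t ^ a - t ^ m := by
      have := congrArg (Nat.cast : ℕ → ℤ) e2
      push_cast at this
      linear_combination -this
    rw [h4, hi, hj, pow_add (t : ℤ) (c + 1) i, pow_add (t : ℤ) (c + 1) j]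
    exact dvd_sub (Dvd.dvd.mul_left (Dvd.intro _ rfl) _) (Dvd.intro _ rfl)
  have h4 : (t : ℤ) ^ (c + 1) ∣ (t : ℤ) ^ c := by
    have h5 : (t : ℤ) ^ c = t ^ n + (N - 1) * (1 - t ^ c) := by
      have := congrArg (Nat.cast : ℕ → ℤ) e1
      push_cast at this
      linear_combination this
    rw [h5, hk, pow_add (t : ℤ) (c + 1) k]
    exact dvd_add (Dvd.intro _ rfl) (Dvd.dvd.mul_right h3 _)
  have h8 : t ^ (c + 1) ≤ t ^ c := Nat.le_of_dvd (by have := hpos c; omega) (by exact_mod_cast h4)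
  have h9 : t ^ c < t ^ (c + 1) := Nat.pow_lt_pow_right (by omega) (by omega)
  omega

theorem num {N t c n a m : ℕ} (ht : 2 ≤ t) (hcn : c < n) (ha : 1 ≤ a)
    (h1 : N * (t ^ c - 1) = t ^ n - 1) (h2 : N * (t ^ a - 1) = t ^ m - 1) : n = m := by
  have hpos : ∀ i, 1 ≤ t ^ i := fun i => Nat.one_le_pow _ _ (by omega)
  have hN : 1 < N := by
    by_contra hN
    have h3 : t ^ c < t ^ n := Nat.pow_lt_pow_right (by omega) hcn
    have h4 := hpos c
    have : N * (t ^ c - 1) ≤ 1 * (t ^ c - 1) := Nat.mul_le_mul_right _ (by omega)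
    omega
  have ham : a < m := by
    have h4 : 1 < t ^ a := Nat.one_lt_pow (by omega) (by omega)
    have h5 : 1 * (t ^ a - 1) < N * (t ^ a - 1) := Nat.mul_lt_mul_of_pos_right hN (by omega)
    have h6 := hpos m
    exact (Nat.pow_lt_pow_iff_right (by omega : 1 < t)).1 (by omega)
  have h3 : a = c := le_antisymm (num_aux ht hcn ham h1 h2) (num_aux ht ham hcn h2 h1)
  rw [h3, h1] at h2
  have h4 := hpos n
  have h5 := hpos m
  exact Nat.pow_right_injective ht (show t ^ n = t ^ m by omega)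

section

variable {Γ : Type u} [Group Γ] [Finite Γ] {V : Type v} [CommGroup V] [Finite V] [Nontrivial V] [MulDistribMulAction Γ V]
  {t s : ℕ} [Fact t.Prime] [Fact s.Prime]

/-- the restricted action -/
abbrev restr (W : Subgroup V) (hW : ∀ g : Γ, ∀ w ∈ W, g • w ∈ W) : MulDistribMulAction Γ W where
  smul g w := ⟨g • (w : V), hW g w w.2⟩
  one_smul w := Subtype.ext (one_smul Γ (w : V))
  mul_smul g h w := Subtype.ext (mul_smul g h (w : V))
  smul_mul g v w := Subtype.ext (smul_mul' g (v : V) w)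
  smul_one g := Subtype.ext (smul_one g)

/-- a non-trivial invariant subgroup is everything -/
theorem eq_top_of_invariant (hV : ∀ v : V, v ^ t = 1) (hU : UniqueSylow s Γ V)
    (hnt : ∃ S : Sylow s Γ, ∃ h ∈ (S : Subgroup Γ), ∃ v : V, h • v ≠ v) {W : Subgroup V} (hW : ∀ g : Γ, ∀ w ∈ W, g • w ∈ W)
    (hbot : W ≠ ⊥) : W = ⊤ := by
  obtain ⟨n, hn⟩ := exists_card_pow hV (⊤ : Subgroup V)
  rw [Subgroup.card_top] at hn
  obtain ⟨c, hc1, hcn, -, hN, -⟩ := data hV hn hU hnt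
  obtain ⟨S, -⟩ := hnt
  let _ := restr W hW
  have : Nontrivial W := (Subgroup.nontrivial_iff_ne_bot W).2 hbot
  have hU' : UniqueSylow s Γ W := by
    intro w hw
    obtain ⟨A, h1, h2, h3⟩ := hU (w : V) (fun h => hw (Subtype.ext h))
    refine ⟨A, h1, fun h hh => Subtype.ext (h2 h hh), fun B hB => h3 B fun h hh => ?_⟩
    exact congrArg Subtype.val (hB h hh)
  have hV' : ∀ v : W, v ^ t = 1 := fun v => Subtype.ext (hV v)
  obtain ⟨m, hm⟩ := exists_card_pow hV W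
  obtain ⟨a, ha⟩ := exists_card_pow hV' (fixV S.1 W)
  have h1 := one_lt_card_fixV hU' S
  have h2 := card_partition hU' S
  rw [ha, hm] at h2
  rw [ha] at h1
  have ha1 : 1 ≤ a := by
    rcases Nat.eq_zero_or_pos a with h | h
    · rw [h, pow_zero] at h1
      omega
    · exact h
  have h3 := num (Fact.out : t.Prime).two_le hcn ha1 hN h2
  apply Subgroup.eq_top_of_card_eq
  rw [hm, hn, h3]

/-- if all the prime divisors of the index of `E` are equal to `s`, then `Γ = E S` -/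
theorem sup_eq_top (E : Subgroup Γ) (hEi : ∀ x : ℕ, x.Prime → x ∣ E.index → x = s) (S : Sylow s Γ) :
    E ⊔ (S : Subgroup Γ) = ⊤ := by
  rw [← Subgroup.index_eq_one]
  by_contra hne
  obtain ⟨x, hx, hdvd⟩ := Nat.exists_prime_and_dvd hne
  have h1 := hEi x hx (hdvd.trans (Subgroup.index_dvd_of_le le_sup_left))
  rw [h1] at hdvd
  exact S.not_dvd_index (hdvd.trans (Subgroup.index_dvd_of_le le_sup_right))

/-- **(1)** -/
theorem irr_of_unique' (hV : ∀ v : V, v ^ t = 1) (E : Subgroup Γ) [hE : E.Normal]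
    (hEi : ∀ x : ℕ, x.Prime → x ∣ E.index → x = s)
    (hU : UniqueSylow s Γ V) (hnt : ∃ S : Sylow s Γ, ∃ h ∈ (S : Subgroup Γ), ∃ v : V, h • v ≠ v) :
    ∀ W : Subgroup V, (∀ d ∈ E, ∀ w ∈ W, d • w ∈ W) → W = ⊥ ∨ W = ⊤ := by
  intro W hW
  by_cases hbot : W = ⊥
  · exact Or.inl hbot
  right
  obtain ⟨⟨ξ, hξ⟩, hξ0⟩ := Subgroup.ne_bot_iff_exists_ne_one.1 hbot
  have hξ1 : ξ ≠ 1 := fun h => hξ0 (Subtype.ext h)
  obtain ⟨S, -, hS, -⟩ := hU ξ hξ1
  let N : Subgroup V := Subgroup.closure {x | ∃ d ∈ E, x = d • ξ}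
  have hNW : N ≤ W := by
    rw [Subgroup.closure_le]
    rintro _ ⟨d, hd, rfl⟩
    exact hW d hd ξ hξ
  have hinv : ∀ g : Γ, ∀ w ∈ N, g • w ∈ N := by
    intro g w hw
    have hg : g ∈ E ⊔ (S : Subgroup Γ) := sup_eq_top E hEi S ▸ Subgroup.mem_top g
    have h1 : N ≤ N.comap (MulDistribMulAction.toMonoidHom V g) := by
      rw [Subgroup.closure_le]
      rintro _ ⟨d, hd, rfl⟩
      rw [Subgroup.mem_sup_of_normal_left] at hg
      obtain ⟨e, he, x, hx, rfl⟩ := hg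
      change (e * x) • d • ξ ∈ N
      refine Subgroup.subset_closure ⟨e * (x * d * x⁻¹), E.mul_mem he (hE.conj_mem d hd x), ?_⟩
      have h2 : x⁻¹ • ξ = ξ := by rw [inv_smul_eq_iff, hS x hx]
      calc (e * x) • d • ξ = e • x • d • ξ := mul_smul _ _ _
        _ = e • x • d • x⁻¹ • ξ := by rw [h2]
        _ = (e * (x * d * x⁻¹)) • ξ := by rw [mul_smul, mul_smul, mul_smul]
    exact h1 hw
  have hNbot : N ≠ ⊥ := by
    intro h
    have h1 : ξ ∈ N := Subgroup.subset_closure ⟨1, E.one_mem, (one_smul Γ ξ).symm⟩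
    rw [h, Subgroup.mem_bot] at h1
    exact hξ1 h1
  exact top_le_iff.1 ((eq_top_of_invariant hV hU hnt hinv hNbot).symm.le.trans hNW)

/-- **(1)**, the form of the task -/
theorem irr_of_unique (hV : ∀ v : V, v ^ t = 1) (_htΓ : ¬ t ∣ Nat.card Γ) (E : Subgroup Γ) [E.Normal]
    (hEi : ∀ x : ℕ, x.Prime → x ∣ E.index → x = s) (_hsE : ¬ s ∣ Nat.card E)
    (hU : UniqueSylow s Γ V) (hnt : ∃ S : Sylow s Γ, ∃ h ∈ (S : Subgroup Γ), ∃ v : V, h • v ≠ v) :
    ∀ W : Subgroup V, (∀ d ∈ E, ∀ w ∈ W, d • w ∈ W) → W = ⊥ ∨ W = ⊤ :=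
  irr_of_unique' hV E hEi hU hnt

/-- **(2)** -/
theorem endgame_of (hts : t ≠ s) (hV : ∀ v : V, v ^ t = 1) (hf : ∀ h : Γ, (∀ v : V, h • v = v) → h = 1)
    (E : Subgroup Γ) [hE : E.Normal] (hEc : ∀ x ∈ E, ∀ y ∈ E, x * y = y * x)
    (hEi : ∀ x : ℕ, x.Prime → x ∣ E.index → x = s) (hU : UniqueSylow s Γ V)
    (hnt : ∃ S : Sylow s Γ, ∃ h ∈ (S : Subgroup Γ), ∃ v : V, h • v ≠ v)
    (g : V →* V →* ℂˣ) (halt : ∀ x, g x x = 1) (hinv : ∀ d ∈ E, ∀ x x' : V, g (d • x) (d • x') = g x x') (hg : g ≠ 1) :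
    False := by
  have ht : t.Prime := Fact.out
  have hs : s.Prime := Fact.out
  have hirr := irr_of_unique' hV E hEi hU hnt
  let iE : CommGroup E := { (inferInstance : Group E) with
    mul_comm := fun a b => Subtype.ext (hEc a a.2 b b.2) }
  obtain ⟨k, hk, hEk⟩ := Cfsg.Agent.H734.Symp.symp (D := E) (X := V) hV
    (fun d hd => Subtype.ext (hf d hd)) (fun W hW => hirr W fun d hd w hw => hW ⟨d, hd⟩ w hw) g halt
    (fun d x x' => hinv d d.2 x x') hg
  obtain ⟨c, hc1, hcn, -, hN, -⟩ := data hV hk hU hnt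
  obtain ⟨S, -⟩ := hnt
  have hpos : ∀ i, 1 ≤ t ^ i := fun i => Nat.one_le_pow _ _ ht.pos
  have hk1 : 1 ≤ k := by omega
  -- the number of Sylow subgroups divides `|E|`
  have hdvd : Nat.card (Sylow s Γ) ∣ Nat.card E := by
    have h1 : Nat.card (Sylow s Γ) ∣ (S : Subgroup Γ).index := S.card_dvd_index
    have h2 : (S : Subgroup Γ).index ∣ Nat.card E * E.index := by
      rw [Subgroup.card_mul_index]
      exact Subgroup.index_dvd_card _
    have h3 : ((S : Subgroup Γ).index).Coprime E.index := by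
      rw [Nat.coprime_iff_gcd_eq_one]
      by_contra hne
      obtain ⟨x, hx, hxd⟩ := Nat.exists_prime_and_dvd hne
      have h4 := hEi x hx (hxd.trans (Nat.gcd_dvd_right _ _))
      rw [h4] at hxd
      exact S.not_dvd_index (hxd.trans (Nat.gcd_dvd_left _ _))
    exact h1.trans (h3.dvd_of_dvd_mul_right h2)
  obtain ⟨m, hm⟩ := hdvd.trans hEk
  have hNpos : 0 < Nat.card (Sylow s Γ) := Nat.card_pos
  have h1 : t ^ (2 * k) - 1 = (t ^ k - 1) * (t ^ k + 1) := by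
    have := Nat.sq_sub_sq (t ^ k) 1
    rw [one_pow, ← pow_mul, mul_comm k 2] at this
    rw [this, mul_comm]
  have h2 : t ^ c - 1 = (t ^ k - 1) * m := by
    apply Nat.eq_of_mul_eq_mul_left hNpos
    rw [hN, h1, hm]
    ring
  have h3 : t ^ k - 1 ∣ t ^ c - 1 := ⟨m, h2⟩
  have hkc : k ∣ c := by
    rcases Nat.eq_or_lt_of_le hk1 with h4 | h4
    · rw [← h4]; exact one_dvd c
    · have h5 : t ^ k - 1 ∣ Nat.gcd (t ^ k - 1) (t ^ c - 1) := Nat.dvd_gcd dvd_rfl h3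
      rw [Nat.pow_sub_one_gcd_pow_sub_one] at h5
      have h6 : 0 < t ^ Nat.gcd k c - 1 := by
        have : 1 < t ^ Nat.gcd k c := Nat.one_lt_pow (Nat.gcd_pos_of_pos_left _ hk1).ne' ht.one_lt
        omega
      have h7 := Nat.le_of_dvd h6 h5
      have h8 := hpos k
      have h9 := hpos (Nat.gcd k c)
      have h10 : k ≤ Nat.gcd k c := (Nat.pow_le_pow_iff_right ht.one_lt).1 (by omega)
      have h11 : Nat.gcd k c = k := le_antisymm (Nat.gcd_le_left _ hk1) h10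
      exact Nat.gcd_eq_left_iff_dvd.1 h11
  have hck : c = k := by
    obtain ⟨i, rfl⟩ := hkc
    rcases i with - | - | i
    · omega
    · omega
    · exfalso
      have : k * (i + 1 + 1) = 2 * k + k * i := by ring
      omega
  rw [hck] at h2
  have hm1 : m = 1 := by
    have h4 : 0 < t ^ k - 1 := by
      have : 1 < t ^ k := Nat.one_lt_pow (by omega) ht.one_lt
      omega
    exact (Nat.eq_of_mul_eq_mul_left h4 (h2.symm.trans (mul_one _).symm))
  rw [hm1, mul_one] at hm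
  have h4 : Nat.card (Sylow s Γ) ≡ 1 [MOD s] := card_sylow_modEq_one s Γ
  rw [← hm] at h4
  have h5 : t ^ k ≡ 0 [MOD s] := by
    have : t ^ k + 1 ≡ 0 + 1 [MOD s] := by simpa using h4
    exact Nat.ModEq.add_right_cancel' 1 this
  have h6 := hs.dvd_of_dvd_pow ((Nat.modEq_zero_iff_dvd).1 h5)
  exact hts ((Nat.prime_dvd_prime_iff_eq hs ht).1 h6).symm

/-- **(2)**, the form of the task -/
theorem endgame (hts : t ≠ s) (hV : ∀ v : V, v ^ t = 1) (hf : ∀ h : Γ, (∀ v : V, h • v = v) → h = 1)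
    (_htΓ : ¬ t ∣ Nat.card Γ) (E : Subgroup Γ) [E.Normal] (hEc : ∀ x ∈ E, ∀ y ∈ E, x * y = y * x)
    (hEi : ∀ x : ℕ, x.Prime → x ∣ E.index → x = s) (_hsE : ¬ s ∣ Nat.card E) (hU : UniqueSylow s Γ V)
    (hnt : ∃ S : Sylow s Γ, ∃ h ∈ (S : Subgroup Γ), ∃ v : V, h • v ≠ v)
    (g : V →* V →* ℂˣ) (halt : ∀ x, g x x = 1) (hinv : ∀ d ∈ E, ∀ x x' : V, g (d • x) (d • x') = g x x') (hg : g ≠ 1) :
    False :=
  endgame_of hts hV hf E hEc hEi hU hnt g halt hinv hg

end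

end Cfsg.Agent.H74.EndGame
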