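import Cfsg.Agent.H386.HalfTwo.Count
import Cfsg.Agent.H488.ThreePsl
import Cfsg.Agent.H74.PslA

/-!
S3576, the row `PSL_d(q)`, `d ≥ 3`.
-/

set_option autoImplicit false
set_option linter.unusedSectionVars false

namespace Cfsg.Agent.H74.HalfPsl

open MulAction Matrix Module
open Cfsg.Agent.H384.TwoTrans Cfsg.Agent.H386.HalfTwo Cfsg.Agent.H488.ThreeHalf Cfsg.Agent.H74.Psl
open scoped LinearAlgebra.Projectivization

universe u v

section

variable {G : Type u} {Ω : Type v} [Group G] [MulAction G Ω] {T : Subgroup G} {F : Type} [Field F] [Fintype F] {d : ℕ}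
  {e : T ≃* ProjectiveSpecialLinearGroup (Fin d) F} {Φ : Ω ≃ ℙ F (Fin d → F)}

/-- the map `SL_d(F) → T` -/
def psi (e : T ≃* ProjectiveSpecialLinearGroup (Fin d) F) : Matrix.SpecialLinearGroup (Fin d) F →* T :=
  e.symm.toMonoidHom.comp (QuotientGroup.mk' _)

theorem psi_surjective : Function.Surjective (psi e) :=
  e.symm.surjective.comp (QuotientGroup.mk'_surjective _)

/-- the point with representative `v` -/
def pt (Φ : Ω ≃ ℙ F (Fin d → F)) (v : Fin d → F) (hv : v ≠ 0) : Ω :=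
  Φ.symm (Projectivization.mk F v hv)

theorem exists_pt (ω : Ω) : ∃ v : Fin d → F, ∃ hv : v ≠ 0, ω = pt Φ v hv := by
  obtain ⟨v, hv, h1⟩ : ∃ v : Fin d → F, ∃ hv : v ≠ 0, Φ ω = Projectivization.mk F v hv :=
    ⟨(Φ ω).rep, (Φ ω).rep_nonzero, (Projectivization.mk_rep _).symm⟩
  exact ⟨v, hv, by rw [pt, ← h1, Equiv.symm_apply_apply]⟩

theorem smul_ne (g : Matrix.SpecialLinearGroup (Fin d) F) {v : Fin d → F} (hv : v ≠ 0) : g • v ≠ 0 :=
  (smul_ne_zero_iff_ne g).2 hv

theorem psi_pt (hΦ : ∀ (t : T) (ω : Ω), Φ (t • ω) = e t • Φ ω) (g : Matrix.SpecialLinearGroup (Fin d) F)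
    (v : Fin d → F) (hv : v ≠ 0) : psi e g • pt Φ v hv = pt Φ (g • v) (smul_ne g hv) := by
  apply Φ.injective
  rw [hΦ]
  have h1 : e (psi e g) = (QuotientGroup.mk g : ProjectiveSpecialLinearGroup (Fin d) F) := by
    change e (e.symm (QuotientGroup.mk g)) = _
    rw [MulEquiv.apply_symm_apply]
  rw [h1, pt, pt, Equiv.apply_symm_apply, Equiv.apply_symm_apply]
  exact Matrix.ProjectiveSpecialLinearGroup.smul_proj_mk g _

theorem pt_eq_iff {v w : Fin d → F} (hv : v ≠ 0) (hw : w ≠ 0) :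
    pt Φ v hv = pt Φ w hw ↔ v ∈ Submodule.span F ({w} : Set (Fin d → F)) := by
  rw [pt, pt, Φ.symm.injective.eq_iff, Projectivization.mk_eq_mk_iff', Submodule.mem_span_singleton]

/-- off the line the orbit has at least `q` points -/
theorem le_card_orbit [Finite Ω] (hΦ : ∀ (t : T) (ω : Ω), Φ (t • ω) = e t • Φ ω) {va vb vc : Fin d → F}
    (ha : va ≠ 0) (hb : vb ≠ 0) (hc' : vc ≠ 0)
    (hc : vc ∉ Submodule.span F ({va, vb} : Set (Fin d → F))) :
    Fintype.card F ≤ Nat.card (orbit (TT T (pt Φ va ha) (pt Φ vb hb)) (pt Φ vc hc')) := by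
  obtain ⟨f, h1, h2⟩ := sep hc
  have fa : f va = 0 := h1 va (Submodule.subset_span (by simp))
  have fb : f vb = 0 := h1 vb (Submodule.subset_span (by simp))
  have key : ∀ x : F, f (x • va) = 0 := fun x => by rw [map_smul, fa, smul_zero]
  have hn : ∀ x : F, vc + x • va ≠ 0 := by
    intro x h3
    have := congrArg f h3
    rw [map_add, key, map_zero, h2, add_zero] at this
    exact one_ne_zero this
  let m : F → orbit (TT T (pt Φ va ha) (pt Φ vb hb)) (pt Φ vc hc') := fun x => ⟨pt Φ (vc + x • va) (hn x), by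
    refine ⟨⟨psi e (Psl.T (x • va) f (key x)), ?_⟩, ?_⟩
    · rw [mem_TT]
      refine ⟨(psi e _).2, ?_, ?_⟩
      · have := psi_pt hΦ (Psl.T (x • va) f (key x)) va ha
        refine this.trans ?_
        congr 1
        rw [T_smul, fa, zero_smul, add_zero]
      · have := psi_pt hΦ (Psl.T (x • va) f (key x)) vb hb
        refine this.trans ?_
        congr 1
        rw [T_smul, fb, zero_smul, add_zero]
    · have := psi_pt hΦ (Psl.T (x • va) f (key x)) vc hc'
      refine this.trans ?_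
      congr 1
      rw [T_smul, h2, one_smul]⟩
  have hm : Function.Injective m := by
    intro x y hxy
    have h3 : pt Φ (vc + x • va) (hn x) = pt Φ (vc + y • va) (hn y) := congrArg Subtype.val hxy
    rw [pt_eq_iff, Submodule.mem_span_singleton] at h3
    obtain ⟨t, ht⟩ := h3
    have h4 := congrArg f ht
    rw [map_smul, map_add, map_add, key, key, h2, add_zero, smul_eq_mul, mul_one] at h4
    rw [h4, one_smul, add_right_inj] at ht
    exact (smul_left_injective F ha ht).symm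
  have h5 := Nat.card_le_card_of_injective m hm
  rwa [Nat.card_eq_fintype_card] at h5

/-- the points of the line other than `a`, `b` -/
theorem ncard_line [Finite Ω] {va vb : Fin d → F} (ha : va ≠ 0) (hb : vb ≠ 0) (S : Set Ω)
    (hab : vb ∉ Submodule.span F ({va} : Set (Fin d → F)))
    (hS : ∀ ω ∈ S, ω ≠ pt Φ va ha ∧ ω ≠ pt Φ vb hb)
    (hS' : ∀ (v : Fin d → F) (hv : v ≠ 0), pt Φ v hv ∈ S → v ∈ Submodule.span F ({va, vb} : Set (Fin d → F))) :
    S.ncard < Fintype.card F := by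
  classical
  have hn : ∀ x : F, x • va + vb ≠ 0 := by
    intro x h1
    apply hab
    rw [Submodule.mem_span_singleton]
    exact ⟨-x, by rw [neg_smul, neg_eq_iff_add_eq_zero, h1]⟩
  have hsub : S ⊆ Set.range (fun x : {x : F // x ≠ 0} => pt Φ (x.1 • va + vb) (hn x.1)) := by
    intro ω hω
    obtain ⟨v, hv, rfl⟩ := exists_pt (Φ := Φ) ω
    have h1 := hS' v hv hω
    obtain ⟨h2, h3⟩ := hS _ hω
    rw [Submodule.mem_span_pair] at h1
    obtain ⟨x, y, rfl⟩ := h1
    rw [Ne, pt_eq_iff] at h2 h3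
    have hx : x ≠ 0 := by
      rintro rfl
      apply h3
      rw [zero_smul, zero_add]
      exact Submodule.smul_mem _ _ (Submodule.mem_span_singleton_self _)
    have hy : y ≠ 0 := by
      rintro rfl
      apply h2
      rw [zero_smul, add_zero]
      exact Submodule.smul_mem _ _ (Submodule.mem_span_singleton_self _)
    refine ⟨⟨y⁻¹ * x, mul_ne_zero (inv_ne_zero hy) hx⟩, ?_⟩
    change pt Φ ((y⁻¹ * x) • va + vb) (hn _) = _
    rw [pt_eq_iff, Submodule.mem_span_singleton]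
    refine ⟨y⁻¹, ?_⟩
    rw [smul_add, smul_smul, smul_smul, inv_mul_cancel₀ hy, one_smul]
  have h6 := (Set.ncard_le_ncard hsub (Set.toFinite _)).trans (Nat.card_coe_set_eq _ ▸ Finite.card_range_le _)
  refine lt_of_le_of_lt h6 ?_
  rw [Nat.card_eq_fintype_card]
  exact Fintype.card_subtype_lt (x := (0 : F)) (by simp)

theorem contra {m : ℕ} [Finite Ω] (hT : T.Normal) (H : Cfsg.Agent.H386.HalfTwo.Half G Ω m) (hd : 3 ≤ d)
    (hΦ : ∀ (t : T) (ω : Ω), Φ (t • ω) = e t • Φ ω) : False := by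
  set va : Fin d → F := Pi.single ⟨0, by omega⟩ 1 with hva
  set vb : Fin d → F := Pi.single ⟨1, by omega⟩ 1 with hvb
  set vc : Fin d → F := Pi.single ⟨2, by omega⟩ 1 with hvc
  have ha : va ≠ 0 := by
    intro h
    have := congrFun h ⟨0, by omega⟩
    simp [hva] at this
  have hb : vb ≠ 0 := by
    intro h
    have := congrFun h ⟨1, by omega⟩
    simp [hvb] at this
  have hc : vc ≠ 0 := by
    intro h
    have := congrFun h ⟨2, by omega⟩
    simp [hvc] at this
  have hab : vb ∉ Submodule.span F ({va} : Set (Fin d → F)) := by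
    rw [Submodule.mem_span_singleton]
    rintro ⟨x, hx⟩
    have := congrFun hx ⟨1, by omega⟩
    simp [hva, hvb] at this
  have hne : pt Φ va ha ≠ pt Φ vb hb := by
    rw [ne_comm, Ne, pt_eq_iff]
    exact hab
  have habc : vc ∉ Submodule.span F ({va, vb} : Set (Fin d → F)) := by
    rw [Submodule.mem_span_pair]
    rintro ⟨x, y, hx⟩
    have := congrFun hx ⟨2, by omega⟩
    simp [hva, hvb, hvc] at this
  have hab1 : va + vb ≠ 0 := by
    intro h
    have := congrFun h ⟨0, by omega⟩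
    simp [hva, hvb] at this
  -- lower bound
  have hlow : Fintype.card F ≤ m := by
    refine (le_card_orbit hΦ ha hb hc habc).trans ?_
    refine H.le_of_le hne ?_ ?_ (fun g hg => mem_GG.2 (mem_TT.1 hg).2)
    · rw [Ne, pt_eq_iff]
      exact fun h => habc (Submodule.span_mono (by simp) h)
    · rw [Ne, pt_eq_iff]
      exact fun h => habc (Submodule.span_mono (by simp) h)
  -- the short orbits
  have hup : ∀ S : Set Ω, S = {ω | (ω ≠ pt Φ va ha ∧ ω ≠ pt Φ vb hb) ∧
      Nat.card (orbit (TT T (pt Φ va ha) (pt Φ vb hb)) ω) < Fintype.card F} → m ∣ S.ncard ∧ S.ncard < Fintype.card F := by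
    rintro S rfl
    constructor
    · refine H.dvd_ncard hne _ (fun x hx => hx.1) ?_
      rintro g hga hgb x ⟨⟨hx1, hx2⟩, hx3⟩
      refine ⟨⟨ne_of_smul hga hx1, ne_of_smul hgb hx2⟩, ?_⟩
      rwa [card_orbit_smul (TT_conj hT hga hgb)]
    · refine ncard_line (Φ := Φ) ha hb _ hab (fun x hx => hx.1) ?_
      intro v hv hvS
      by_contra hcon
      exact absurd (le_card_orbit hΦ ha hb hv hcon) (not_le.2 hvS.2)
  obtain ⟨h1, h2⟩ := hup _ rfl
  set S : Set Ω := {ω | (ω ≠ pt Φ va ha ∧ ω ≠ pt Φ vb hb) ∧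
      Nat.card (orbit (TT T (pt Φ va ha) (pt Φ vb hb)) ω) < Fintype.card F} with hSdef
  have hmem : pt Φ (va + vb) hab1 ∈ S := by
    have h3 : pt Φ (va + vb) hab1 ≠ pt Φ va ha := by
      rw [Ne, pt_eq_iff, Submodule.mem_span_singleton]
      rintro ⟨x, hx⟩
      have := congrFun hx ⟨1, by omega⟩
      simp [hva, hvb] at this
    have h4 : pt Φ (va + vb) hab1 ≠ pt Φ vb hb := by
      rw [Ne, pt_eq_iff, Submodule.mem_span_singleton]
      rintro ⟨x, hx⟩
      have := congrFun hx ⟨0, by omega⟩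
      simp [hva, hvb] at this
    refine ⟨⟨h3, h4⟩, ?_⟩
    rw [Nat.card_coe_set_eq]
    refine ncard_line (Φ := Φ) ha hb _ hab ?_ ?_
    · rintro _ ⟨u, rfl⟩
      have hu := mem_TT.1 u.2
      exact ⟨ne_of_smul hu.2.1 h3, ne_of_smul hu.2.2 h4⟩
    · rintro v hv ⟨u, hu⟩
      have hu' := mem_TT.1 u.2
      obtain ⟨g, hg⟩ := psi_surjective (e := e) ⟨u, hu'.1⟩
      have e1 : ∀ ω : Ω, psi e g • ω = (u : G) • ω := fun ω => by rw [hg]; rfl
      have e2 : pt Φ (g • va) (smul_ne g ha) = pt Φ va ha := by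
        rw [← psi_pt hΦ, e1]
        exact hu'.2.1
      have e3 : pt Φ (g • vb) (smul_ne g hb) = pt Φ vb hb := by
        rw [← psi_pt hΦ, e1]
        exact hu'.2.2
      have e4 : pt Φ v hv = pt Φ (g • (va + vb)) (smul_ne g hab1) := by
        rw [← psi_pt hΦ, e1]
        exact hu.symm
      rw [pt_eq_iff, Submodule.mem_span_singleton] at e2 e3 e4
      obtain ⟨x, hx⟩ := e2
      obtain ⟨y, hy⟩ := e3
      obtain ⟨z, hz⟩ := e4
      rw [Submodule.mem_span_pair]
      refine ⟨z * x, z * y, ?_⟩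
      rw [← hz, smul_add, ← hx, ← hy, smul_add, smul_smul, smul_smul]
  have h3 : S.ncard ≠ 0 := (Set.ncard_pos (Set.toFinite _)).2 ⟨_, hmem⟩ |>.ne'
  have h4 := Nat.le_of_dvd (Nat.pos_of_ne_zero h3) h1
  omega

/-- **S3576, the row `PSL_d(q)`, `d ≥ 3`** (does not occur). -/
theorem psl_false {m : ℕ} (A : AS G Ω T) (H : Cfsg.Agent.H386.HalfTwo.Half G Ω m) {F : Type} [Field F] [Fintype F] {d : ℕ} (hd : 3 ≤ d)
    (e : Nonempty (T ≃* Matrix.ProjectiveSpecialLinearGroup (Fin d) F))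
    (hn : Nat.card Ω * (Fintype.card F - 1) = Fintype.card F ^ d - 1) : False := by
  obtain ⟨e⟩ := e
  obtain ⟨r, hch⟩ := CharP.exists F
  obtain ⟨-, hr, -⟩ := FiniteField.card F r
  have := Fact.mk hr
  have := A.finΩ
  obtain ⟨k, rfl⟩ : ∃ k, d = k + 1 + 1 + 1 := ⟨d - 3, by omega⟩
  obtain ⟨e', Φ, hΦ⟩ := Cfsg.Agent.H410.ASLie.psl_equiv (m := k + 1) A e
    (char_not_dvd (d := k + 1 + 1 + 1) hr (by omega) hn)
  exact contra A.normal H hd hΦ

/-- **S3576, the row `PSL_d(q)`, `d ≥ 3`.** -/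
theorem psl {m : ℕ} (A : AS G Ω T) (H : Cfsg.Agent.H386.HalfTwo.Half G Ω m) {F : Type} [Field F] [Fintype F] {d : ℕ} (hd : 3 ≤ d)
    (e : Nonempty (T ≃* Matrix.ProjectiveSpecialLinearGroup (Fin d) F))
    (hn : Nat.card Ω * (Fintype.card F - 1) = Fintype.card F ^ d - 1) : IsMultiplyPretransitive G Ω 3 :=
  (psl_false A H hd e hn).elim

end

end Cfsg.Agent.H74.HalfPsl
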