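import Cfsg.Agent.H74.PslA
import Cfsg.Agent.H584.NC.PIBasic

/-!
S4386: the linear case, common lemmas: `psi : SL_d(F) → S`, compatibility with `Φ`.
-/

set_option autoImplicit false
set_option linter.unusedSectionVars false

namespace Cfsg.Agent.H74.Nc

open Subgroup Matrix Module
open Cfsg.Agent.H584.NC Cfsg.Agent.H74.Psl
open scoped LinearAlgebra.Projectivization

universe u

section

variable {G : Type u} [Group G] {S M : Subgroup G} {r : ℕ} {F : Type} [Field F] [Fintype F] {d : ℕ}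
  {e : S ≃* Matrix.ProjectiveSpecialLinearGroup (Fin d) F} {Φ : (G ⧸ M) ≃ ℙ F (Fin d → F)}

/-- the map `SL_d(F) → S` -/
def psi (e : S ≃* Matrix.ProjectiveSpecialLinearGroup (Fin d) F) : Matrix.SpecialLinearGroup (Fin d) F →* S :=
  e.symm.toMonoidHom.comp (QuotientGroup.mk' _)

theorem psi_surjective : Function.Surjective (psi e) :=
  e.symm.surjective.comp (QuotientGroup.mk'_surjective _)

theorem Phi_psi (h : Lin S M r F d e Φ) (g : Matrix.SpecialLinearGroup (Fin d) F) (ω : G ⧸ M) :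
    Φ (psi e g • ω) = g • Φ ω := by
  rw [h.equiv]
  have h1 : e (psi e g) = (QuotientGroup.mk g : Matrix.ProjectiveSpecialLinearGroup (Fin d) F) := by
    change e (e.symm (QuotientGroup.mk g)) = _
    rw [MulEquiv.apply_symm_apply]
  rw [h1]
  exact Matrix.ProjectiveSpecialLinearGroup.smul_proj_mk g (Φ ω)

/-- the point with representative `v` -/
def pt (Φ : (G ⧸ M) ≃ ℙ F (Fin d → F)) (v : Fin d → F) (hv : v ≠ 0) : G ⧸ M :=
  Φ.symm (Projectivization.mk F v hv)

theorem Phi_pt (v : Fin d → F) (hv : v ≠ 0) : Φ (pt Φ v hv) = Projectivization.mk F v hv :=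
  Equiv.apply_symm_apply _ _

theorem sub_pt (v : Fin d → F) (hv : v ≠ 0) : (Φ (pt Φ v hv)).submodule = Submodule.span F {v} := by
  rw [Phi_pt, Projectivization.submodule_mk]

theorem exists_pt (ω : G ⧸ M) : ∃ v : Fin d → F, ∃ hv : v ≠ 0, ω = pt Φ v hv := by
  obtain ⟨v, hv, h1⟩ : ∃ v : Fin d → F, ∃ hv : v ≠ 0, Φ ω = Projectivization.mk F v hv :=
    ⟨(Φ ω).rep, (Φ ω).rep_nonzero, (Projectivization.mk_rep _).symm⟩
  exact ⟨v, hv, by rw [pt, ← h1, Equiv.symm_apply_apply]⟩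

theorem smul_ne (g : Matrix.SpecialLinearGroup (Fin d) F) {v : Fin d → F} (hv : v ≠ 0) : g • v ≠ 0 :=
  (smul_ne_zero_iff_ne g).2 hv

theorem psi_pt (h : Lin S M r F d e Φ) (g : Matrix.SpecialLinearGroup (Fin d) F) (v : Fin d → F) (hv : v ≠ 0) :
    psi e g • pt Φ v hv = pt Φ (g • v) (smul_ne g hv) := by
  apply Φ.injective
  rw [Phi_psi h, Phi_pt, Phi_pt]
  rfl

theorem pt_eq_iff {v w : Fin d → F} (hv : v ≠ 0) (hw : w ≠ 0) :
    pt Φ v hv = pt Φ w hw ↔ v ∈ Submodule.span F ({w} : Set (Fin d → F)) := by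
  rw [pt, pt, Φ.symm.injective.eq_iff, Projectivization.mk_eq_mk_iff', Submodule.mem_span_singleton]

theorem le_iff {v : Fin d → F} (hv : v ≠ 0) (W : Submodule F (Fin d → F)) :
    (Φ (pt Φ v hv)).submodule ≤ W ↔ v ∈ W := by
  rw [sub_pt, Submodule.span_singleton_le_iff_mem]

end

end Cfsg.Agent.H74.Nc
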