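import Cfsg.Agent.H74.NcFix

/-!
S4386: the linear case with `d ≥ 4` does not occur.
-/

set_option autoImplicit false
set_option linter.unusedSectionVars false

namespace Cfsg.Agent.H74.Nc

open Subgroup Matrix Module
open Cfsg.Agent.H584.NC Cfsg.Agent.H74.Psl
open scoped LinearAlgebra.Projectivization Pointwise

universe u

section

variable {F : Type} [Field F] [Fintype F] {d : ℕ}

local notation "𝕍" => Fin d → F
local notation "𝕊" => Matrix.SpecialLinearGroup (Fin d) F

/-- basis vectors -/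
abbrev E (F : Type) [Field F] {d : ℕ} (i : Fin d) : Fin d → F := Pi.single i 1

/-- coordinates -/
abbrev pr (F : Type) [Field F] {d : ℕ} (i : Fin d) : Dual F (Fin d → F) := LinearMap.proj i

/-- the line -/
def ell (F : Type) [Field F] {d : ℕ} (i j : Fin d) : Submodule F (Fin d → F) := Submodule.span F {E F i, E F j}

theorem mem_ell {i j : Fin d} {x : 𝕍} : x ∈ ell F i j ↔ ∃ a b : F, a • E F i + b • E F j = x :=
  Submodule.mem_span_pair

theorem Ei_mem (i j : Fin d) : E F i ∈ ell F i j := Submodule.subset_span (by simp)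
theorem Ej_mem (i j : Fin d) : E F j ∈ ell F i j := Submodule.subset_span (by simp)

theorem pr_ell {i j k : Fin d} (hi : k ≠ i) (hj : k ≠ j) {x : 𝕍} (hx : x ∈ ell F i j) : pr F k x = 0 := by
  obtain ⟨a, b, rfl⟩ := mem_ell.1 hx
  simp [hi, hj]

/-- transvections with direction in `ℓ` preserve `ℓ` -/
theorem T_pres {i j : Fin d} {v : 𝕍} (hv : v ∈ ell F i j) (f : Dual F 𝕍) (h : f v = 0) {x : 𝕍} (hx : x ∈ ell F i j) :
    T v f h • x ∈ ell F i j := by
  rw [T_smul]
  exact Submodule.add_mem _ hx (Submodule.smul_mem _ _ hv)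

theorem T_pres' {i j : Fin d} {v : 𝕍} (f : Dual F 𝕍) (hf : ∀ y ∈ ell F i j, f y = 0) (h : f v = 0) {x : 𝕍}
    (hx : x ∈ ell F i j) : T v f h • x ∈ ell F i j := by
  rw [T_smul, hf x hx, zero_smul, add_zero]
  exact hx

theorem T_pow_char {p : ℕ} [CharP F p] (v : 𝕍) (f : Dual F 𝕍) (h : f v = 0) : T v f h ^ p = 1 := by
  rw [← tr_apply, ← map_pow]
  have : (Multiplicative.ofAdd (⟨v, LinearMap.mem_ker.2 h⟩ : LinearMap.ker f)) ^ p = 1 := by
    apply Multiplicative.toAdd.injective
    rw [toAdd_pow, toAdd_one]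
    apply Subtype.ext
    change p • v = 0
    rw [← Nat.cast_smul_eq_nsmul F, CharP.cast_eq_zero, zero_smul]
  rw [this, map_one]

/-- a subgroup containing the images of all the elements preserving `ℓ` is not 2-nilpotent -/
theorem not_nc {G : Type u} [Group G] [Finite G] {H : Subgroup G} {φ : 𝕊 →* G} {i j k : Fin d}
    (hij : i ≠ j) (hki : k ≠ i) (hkj : k ≠ j)
    (hH : ∀ g : 𝕊, (∀ x ∈ ell F i j, g • x ∈ ell F i j) → φ g ∈ H)
    (hφ : ∀ g : 𝕊, φ g = 1 → ∀ x : 𝕍, g • x ∈ Submodule.span F ({x} : Set 𝕍)) : ¬ NC H := by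
  intro hnc
  have hji := hij.symm
  obtain ⟨p, hchar⟩ := CharP.exists F
  have hp : p.Prime := CharP.char_is_prime F p
  by_cases h2 : (2 : F) = 0
  · have e1 : pr F j (E F i) = 0 := by simp [hji]
    have e2 : pr F i (E F j) = 0 := by simp [hij]
    have e3 : pr F k (E F i) = 0 := by simp [hki]
    have hadd : ∀ x : F, x + x = 0 := fun x => by rw [← two_mul, h2, zero_mul]
    have hadd' : ∀ x : 𝕍, x + x = 0 := fun x => by
      funext l
      exact hadd (x l)
    set z : 𝕊 := T (E F i) (pr F j) e1 * T (E F j) (pr F i) e2 with hz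
    set t : 𝕊 := T (E F i) (pr F k) e3 with ht
    have hzu : ∀ u : 𝕍, z • u = u + pr F i u • E F j + (pr F i u + pr F j u) • E F i := by
      intro u
      rw [hz, mul_smul, T_smul, T_smul, map_add, map_smul]
      have : pr F j (E F j) = 1 := by simp
      rw [this, smul_eq_mul, mul_one, add_comm (pr F j u)]
    have hpi : ∀ u : 𝕍, pr F i (z • u) = pr F j u := by
      intro u
      rw [hzu, map_add, map_add, map_smul, map_smul, e2, smul_zero, add_zero]
      have : pr F i (E F i) = 1 := by simp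
      rw [this, smul_eq_mul, mul_one, ← add_assoc, hadd, zero_add]
    have hpj : ∀ u : 𝕍, pr F j (z • u) = pr F i u + pr F j u := by
      intro u
      rw [hzu, map_add, map_add, map_smul, map_smul, e1, smul_zero, add_zero]
      have : pr F j (E F j) = 1 := by simp
      rw [this, smul_eq_mul, mul_one, add_comm]
    have hpk : ∀ u : 𝕍, pr F k (z • u) = pr F k u := by
      intro u
      rw [hzu, map_add, map_add, map_smul, map_smul, e3, smul_zero, add_zero]
      have : pr F k (E F j) = 0 := by simp [hkj]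
      rw [this, smul_zero, add_zero]
    have hz3 : z ^ 3 = 1 := by
      apply smul_ext
      intro u
      rw [one_smul, pow_succ, pow_succ, pow_one, mul_smul, mul_smul, hzu (z • z • u), hpi (z • u),
        hpj (z • u), hpi u, hpj u, hzu (z • u), hpi u, hpj u, hzu u]
      generalize pr F i u = a
      generalize pr F j u = b
      have : u + a • E F j + (a + b) • E F i + b • E F j + (b + (a + b)) • E F i + (a + b) • E F j +
          (a + b + (b + (a + b))) • E F i = u + ((a + b) • E F j + (a + b) • E F j) +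
            ((a + b) • E F i + (a + b) • E F i) + ((b + (a + b)) • E F i + (b + (a + b)) • E F i) := by
        module
      rw [this, hadd', hadd', hadd', add_zero, add_zero, add_zero]
    have hzH : φ z ∈ H := hH z fun x hx => by
      rw [hz, mul_smul]
      exact T_pres (Ei_mem i j) _ _ (T_pres (Ej_mem i j) _ _ hx)
    have htH : φ t ∈ H := hH t fun x hx => T_pres (Ei_mem i j) _ _ hx
    have hord : ∀ y : G, y ^ 3 = 1 → ¬ 2 ∣ orderOf y := by
      intro y hy h3
      have := h3.trans (orderOf_dvd_of_pow_eq_one hy)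
      omega
    have hc := hnc.closed (x := ⟨φ t * φ z * (φ t)⁻¹, H.mul_mem (H.mul_mem htH hzH) (H.inv_mem htH)⟩)
      (y := ⟨(φ z)⁻¹, H.inv_mem hzH⟩) (by
        rw [Subgroup.orderOf_mk]
        apply hord
        rw [conj_pow, ← map_pow, hz3, map_one, mul_one, mul_inv_cancel]) (by
        rw [Subgroup.orderOf_mk]
        apply hord
        rw [inv_pow, ← map_pow, hz3, map_one, inv_one])
    rw [MulMemClass.mk_mul_mk, Subgroup.orderOf_mk] at hc
    have e4 : pr F k (E F i + E F j) = 0 := by simp [hki, hkj]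
    have hcomm : φ t * φ z * (φ t)⁻¹ * (φ z)⁻¹ = φ (T (E F i + E F j) (pr F k) e4) := by
      rw [← map_inv, ← map_inv, ← map_mul, ← map_mul, ← map_mul]
      congr 1
      apply smul_ext
      intro u
      rw [T_smul]
      have h5 : t * z * t⁻¹ * z⁻¹ = t * (z * t⁻¹ * z⁻¹) := by group
      have h6 : pr F k (z⁻¹ • u) = pr F k u := by
        rw [← hpk, smul_inv_smul]
      have h7 : z • E F i = E F j := by
        rw [hzu, e1, add_zero]
        have : pr F i (E F i) = 1 := by simp
        rw [this, one_smul, one_smul, add_right_comm, hadd', zero_add]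
      have h8 : -pr F k u = pr F k u := by
        rw [neg_eq_iff_add_eq_zero, hadd]
      have h9 : pr F k (E F j) = 0 := by simp [hkj]
      rw [h5, ht, T_inv, T_conj, mul_smul, T_smul, T_smul, co_apply, LinearMap.neg_apply, h6, h7, h8, map_add,
        map_smul, h9, smul_zero, add_zero, smul_add]
      abel
    rw [hcomm] at hc
    have hp2 : p = 2 := by
      have h9 : ((2 : ℕ) : F) = 0 := by exact_mod_cast h2
      rw [CharP.cast_eq_zero_iff F p] at h9
      exact (Nat.prime_dvd_prime_iff_eq hp Nat.prime_two).1 h9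
    have h10 : φ (T (E F i + E F j) (pr F k) e4) ^ 2 = 1 := by
      subst hp2
      rw [← map_pow, T_pow_char (p := 2), map_one]
    have h11 := orderOf_dvd_of_pow_eq_one h10
    have h12 : orderOf (φ (T (E F i + E F j) (pr F k) e4)) = 1 :=
      ((Nat.dvd_prime Nat.prime_two).1 h11).resolve_right (fun h => hc (h.symm ▸ dvd_refl 2))
    rw [orderOf_eq_one_iff] at h12
    have h13 := hφ _ h12 (E F k)
    rw [T_smul, Submodule.mem_span_singleton] at h13
    obtain ⟨a, ha⟩ := h13
    have h14 := congrArg (pr F i) ha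
    simp [hij, hki.symm] at h14
  · have e1 : pr F j (E F i) = 0 := by simp [hji]
    have e2 : ((-2 : F) • pr F i) (E F j) = 0 := by simp [hij]
    set z : 𝕊 := T (E F i) (pr F j) e1 * T (E F j) ((-2 : F) • pr F i) e2 with hz
    have hodd : ¬ 2 ∣ p := by
      intro h3
      apply h2
      rw [← (Nat.prime_dvd_prime_iff_eq Nat.prime_two hp).1 h3] at hchar
      exact_mod_cast CharP.cast_eq_zero F 2
    have hord : ∀ y : G, y ^ p = 1 → ¬ 2 ∣ orderOf y := by
      intro y hy h3
      exact hodd (h3.trans (orderOf_dvd_of_pow_eq_one hy))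
    have hc := hnc.closed (x := ⟨φ (T (E F i) (pr F j) e1), hH _ fun x hx => T_pres (Ei_mem i j) _ _ hx⟩)
      (y := ⟨φ (T (E F j) ((-2 : F) • pr F i) e2), hH _ fun x hx => T_pres (Ej_mem i j) _ _ hx⟩) (by
        rw [Subgroup.orderOf_mk]
        apply hord
        rw [← map_pow, T_pow_char (p := p), map_one]) (by
        rw [Subgroup.orderOf_mk]
        apply hord
        rw [← map_pow, T_pow_char (p := p), map_one])
    rw [MulMemClass.mk_mul_mk, Subgroup.orderOf_mk, ← map_mul, ← hz] at hc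
    have hz1 : z • E F i = - E F i - (2 : F) • E F j := by
      rw [hz, mul_smul, T_smul, T_smul]
      simp only [map_add, map_smul, LinearMap.smul_apply, smul_eq_mul]
      have a1 : pr F i (E F i) = 1 := by simp
      have a2 : pr F j (E F j) = 1 := by simp
      rw [e1, a1, a2]
      module
    have hz2 : z • E F j = E F i + E F j := by
      rw [hz, mul_smul, T_smul, T_smul, e2]
      simp only [map_add, map_smul, smul_eq_mul]
      have a2 : pr F j (E F j) = 1 := by simp
      rw [a2]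
      module
    have hz3 : z ^ 2 • E F i = - E F i := by
      rw [pow_two, mul_smul, hz1, smul_sub, smul_neg, smul_comm, hz1, hz2]
      module
    have hz4 : ∀ m : ℕ, z ^ (2 * m) • E F i = (-1 : F) ^ m • E F i := by
      intro m
      induction m with
      | zero => simp
      | succ m ih =>
        rw [mul_add, mul_one, pow_add, mul_smul, hz3, smul_neg, ih, pow_succ]
        module
    obtain ⟨m, hm⟩ : ∃ m, orderOf (φ z) = 2 * m + 1 := ⟨orderOf (φ z) / 2, by omega⟩
    have h5 : φ (z ^ (2 * m + 1)) = 1 := by rw [map_pow, ← hm, pow_orderOf_eq_one]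
    have h6 := hφ _ h5 (E F i)
    rw [pow_succ', mul_smul, hz4, smul_comm, hz1, Submodule.mem_span_singleton] at h6
    obtain ⟨a, ha⟩ := h6
    have h7 := congrArg (pr F j) ha
    simp [hji] at h7
    exact h2 h7

/-- the subspaces invariant under the stabiliser of `ℓ` -/
theorem eq_ell {i j : Fin d} {W : Submodule F 𝕍} (hbot : W ≠ ⊥) (htop : W ≠ ⊤)
    (hW : ∀ g : 𝕊, (∀ x ∈ ell F i j, g • x ∈ ell F i j) → ∀ x ∈ W, g • x ∈ W) : W = ell F i j := by
  have h1 : W ≤ ell F i j := by
    by_contra hcon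
    obtain ⟨u, hu, hul⟩ := SetLike.not_le_iff_exists.1 hcon
    obtain ⟨f, hf, hfu⟩ := sep hul
    apply htop
    rw [eq_top_iff]
    rintro y -
    have h2 : f (y - f y • u) = 0 := by rw [map_sub, map_smul, hfu, smul_eq_mul, mul_one, sub_self]
    have h3 := hW (T (y - f y • u) f h2) (fun x hx => T_pres' f hf h2 hx) u hu
    rw [T_smul, hfu, one_smul] at h3
    have h4 := W.sub_mem h3 hu
    rw [add_sub_cancel_left] at h4
    have h5 := W.add_mem h4 (W.smul_mem (f y) hu)
    rwa [sub_add_cancel] at h5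
  refine le_antisymm h1 ?_
  obtain ⟨u, hu, hu0⟩ := (Submodule.ne_bot_iff W).1 hbot
  obtain ⟨f, -, hfu⟩ := sep (W := (⊥ : Submodule F 𝕍)) (x := u) (by rwa [Submodule.mem_bot])
  intro y hy
  have h2 : f (y - f y • u) = 0 := by rw [map_sub, map_smul, hfu, smul_eq_mul, mul_one, sub_self]
  have h3 := hW (T (y - f y • u) f h2)
    (fun x hx => T_pres (Submodule.sub_mem _ hy (Submodule.smul_mem _ _ (h1 hu))) f h2 hx) u hu
  rw [T_smul, hfu, one_smul] at h3
  have h4 := W.sub_mem h3 hu
  rw [add_sub_cancel_left] at h4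
  have h5 := W.add_mem h4 (W.smul_mem (f y) hu)
  rwa [sub_add_cancel] at h5

end

section

variable {G : Type u} [Group G] {S M : Subgroup G} {r : ℕ} {F : Type} [Field F] [Fintype F] {d : ℕ}
  {e : S ≃* Matrix.ProjectiveSpecialLinearGroup (Fin d) F} {Φ : (G ⧸ M) ≃ ℙ F (Fin d → F)}

theorem E_ne (i : Fin d) : E F i ≠ 0 := by
  intro h
  have := congrFun h i
  simp at this

theorem psi_eq_one (h : Lin S M r F d e Φ) {g : Matrix.SpecialLinearGroup (Fin d) F} (hg : psi e g = 1)
    (x : Fin d → F) : g • x ∈ Submodule.span F ({x} : Set (Fin d → F)) := by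
  by_cases hx : x = 0
  · rw [hx, smul_zero]
    exact Submodule.zero_mem _
  · have h1 := psi_pt h g x hx
    rw [hg, one_smul, eq_comm, pt_eq_iff] at h1
    exact h1

/-- the points of the line through `a` and `b` -/
def ln (Φ : (G ⧸ M) ≃ ℙ F (Fin d → F)) (a b : G ⧸ M) : Set (G ⧸ M) :=
  {ω | (Φ ω).submodule ≤ (Φ a).submodule ⊔ (Φ b).submodule}

theorem smul_ln (hcol : ColInv M F d Φ) (g : G) (a b : G ⧸ M) : g • ln Φ a b = ln Φ (g • a) (g • b) := by
  ext ω
  rw [Set.mem_smul_set_iff_inv_smul_mem]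
  constructor
  · intro h
    have := hcol g a b (g⁻¹ • ω) h
    rwa [smul_inv_smul] at this
  · intro h
    have := hcol g⁻¹ (g • a) (g • b) ω h
    rwa [inv_smul_smul, inv_smul_smul] at this

theorem mem_ln {i j : Fin d} {v : Fin d → F} (hv : v ≠ 0) :
    pt Φ v hv ∈ ln Φ (pt Φ (E F i) (E_ne i)) (pt Φ (E F j) (E_ne j)) ↔ v ∈ ell F i j := by
  change (Φ (pt Φ v hv)).submodule ≤ _ ↔ _
  rw [le_iff, sub_pt, sub_pt, ell, Submodule.span_insert]

/-- two-transitivity -/
theorem two_trans (h : Lin S M r F d e Φ) (hd : 3 ≤ d) {a b a' b' : G ⧸ M} (hab : a ≠ b) (hab' : a' ≠ b') :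
    ∃ s ∈ S, s • a = a' ∧ s • b = b' := by
  obtain ⟨va, ha, rfl⟩ := exists_pt (Φ := Φ) a
  obtain ⟨vb, hb, rfl⟩ := exists_pt (Φ := Φ) b
  obtain ⟨va', ha', rfl⟩ := exists_pt (Φ := Φ) a'
  obtain ⟨vb', hb', rfl⟩ := exists_pt (Φ := Φ) b'
  obtain ⟨g, hg⟩ := trans_vec hd ha ha'
  have h1 : psi e g • pt Φ va ha = pt Φ va' ha' := by
    rw [psi_pt h]
    congr 1
  have h2 : g • vb ∉ Submodule.span F ({va'} : Set (Fin d → F)) := by
    rw [← pt_eq_iff (Φ := Φ) (smul_ne g hb) ha', ← psi_pt h g vb hb, ← h1]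
    intro h3
    exact hab (MulAction.injective _ h3).symm
  have h3 : vb' ∉ Submodule.span F ({va'} : Set (Fin d → F)) := by
    rw [← pt_eq_iff (Φ := Φ) hb' ha']
    exact fun h4 => hab' h4.symm
  obtain ⟨k, hk, hk'⟩ := trans_stab hd h2 h3
  refine ⟨psi e (k * g), (psi e _).2, ?_, ?_⟩
  · refine (psi_pt h (k * g) va ha).trans ?_
    congr 1
    rw [mul_smul, hg, hk]
  · refine (psi_pt h (k * g) vb hb).trans ?_
    congr 1
    rw [mul_smul, hk']

theorem ncard_ln [Finite G] {i j : Fin d} (hij : i ≠ j) :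
    (ln Φ (pt Φ (E F i) (E_ne i)) (pt Φ (E F j) (E_ne j))).ncard ≤ Fintype.card F + 1 := by
  have hn : ∀ x : F, x • E F i + E F j ≠ 0 := by
    intro x h1
    have := congrFun h1 j
    simp [hij] at this
  let m : Option F → G ⧸ M := fun o => o.elim (pt Φ (E F i) (E_ne i)) (fun x => pt Φ (x • E F i + E F j) (hn x))
  have hsub : ln Φ (pt Φ (E F i) (E_ne i)) (pt Φ (E F j) (E_ne j)) ⊆ Set.range m := by
    intro ω hω
    obtain ⟨v, hv, rfl⟩ := exists_pt (Φ := Φ) ω
    rw [mem_ln, mem_ell] at hω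
    obtain ⟨a, b, rfl⟩ := hω
    by_cases hb : b = 0
    · refine ⟨none, ?_⟩
      change pt Φ (E F i) (E_ne i) = _
      rw [eq_comm, pt_eq_iff, hb, zero_smul, add_zero]
      exact Submodule.smul_mem _ _ (Submodule.mem_span_singleton_self _)
    · refine ⟨some (b⁻¹ * a), ?_⟩
      change pt Φ ((b⁻¹ * a) • E F i + E F j) (hn _) = _
      rw [pt_eq_iff, Submodule.mem_span_singleton]
      refine ⟨b⁻¹, ?_⟩
      rw [smul_add, smul_smul, smul_smul, inv_mul_cancel₀ hb, one_smul]
  have h6 := (Set.ncard_le_ncard hsub (Set.toFinite _)).trans (Nat.card_coe_set_eq _ ▸ Finite.card_range_le _)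
  rwa [Nat.card_eq_fintype_card, Fintype.card_option] at h6

/-- **Task 483.** -/
theorem lin_four {G : Type u} [Group G] [Finite G] {S M : Subgroup G} {r : ℕ} {F : Type} [Field F] [Fintype F] {d : ℕ}
    (hd : 4 ≤ d) {e : S ≃* Matrix.ProjectiveSpecialLinearGroup (Fin d) F} {Φ : (G ⧸ M) ≃ ℙ F (Fin d → F)}
    (h : Lin S M r F d e Φ) (hfix : FixSub S M r F d Φ) (hcol : ColInv M F d Φ) : False := by
  obtain ⟨i, j, k, l, hij, hik, hil, hjk, hjl, hkl⟩ : ∃ i j k l : Fin d, i ≠ j ∧ i ≠ k ∧ i ≠ l ∧ j ≠ k ∧ j ≠ l ∧ k ≠ l :=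
    ⟨⟨0, by omega⟩, ⟨1, by omega⟩, ⟨2, by omega⟩, ⟨3, by omega⟩, by simp, by simp, by simp, by simp, by simp, by simp⟩
  set a : G ⧸ M := pt Φ (E F i) (E_ne i) with ha
  set b : G ⧸ M := pt Φ (E F j) (E_ne j) with hb
  have hab : a ≠ b := by
    rw [ha, hb, Ne, pt_eq_iff, Submodule.mem_span_singleton]
    rintro ⟨t, ht⟩
    have := congrFun ht i
    simp [hij] at this
  set H : Subgroup G := MulAction.stabilizer G (ln Φ a b) with hH
  have hsup : S ⊔ H = ⊤ := by
    apply PI.sup_of_orbit
    intro g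
    obtain ⟨s, hs, h1, h2⟩ := two_trans h (by omega) hab (fun h1 : g • a = g • b => hab (MulAction.injective _ h1))
    refine ⟨s, hs, ?_⟩
    rw [smul_ln hcol, smul_ln hcol, h1, h2]
  have hmem : ∀ g : Matrix.SpecialLinearGroup (Fin d) F, (∀ x ∈ ell F i j, g • x ∈ ell F i j) →
      ((psi e g : S) : G) ∈ H := by
    intro g hg
    rw [hH, MulAction.mem_stabilizer_iff]
    apply Set.eq_of_subset_of_ncard_le
    · rintro _ ⟨ω, hω, rfl⟩
      obtain ⟨v, hv, rfl⟩ := exists_pt (Φ := Φ) ω
      rw [mem_ln] at hω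
      have h1 := psi_pt h g v hv
      change psi e g • pt Φ v hv ∈ _
      rw [h1, mem_ln]
      exact hg v hω
    · rw [Set.ncard_smul_set]
    · exact Set.toFinite _
  have hne : H ≠ ⊤ := by
    intro h1
    have h2 := h.pi.transitive_S
    obtain ⟨s, hs⟩ := h2.exists_smul_eq a (pt Φ (E F k) (E_ne k))
    have h3 : (s : G) ∈ H := h1 ▸ mem_top _
    rw [hH, MulAction.mem_stabilizer_iff] at h3
    have h4 : (s : G) • a ∈ (s : G) • ln Φ a b := Set.smul_mem_smul_set (by
      rw [ha, hb, mem_ln]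
      exact Ei_mem i j)
    rw [h3] at h4
    have h5 : s • a ∈ ln Φ a b := h4
    rw [hs, mem_ln] at h5
    have := pr_ell hik.symm hjk.symm h5
    simp at this
  have hnc : ¬ NC H := by
    refine not_nc (φ := S.subtype.comp (psi e)) hij hik.symm hjk.symm hmem ?_
    intro g hg
    apply psi_eq_one h
    exact Subtype.ext hg
  obtain ⟨K, hK, hHK, hsupK, hindex, hcard⟩ := h.pi.exists_over hnc hsup hne
  obtain ⟨W, hbot, htop, hW⟩ := hfix K hindex hsupK
  have hW' : ∀ g : Matrix.SpecialLinearGroup (Fin d) F, ((psi e g : S) : G) ∈ K → ∀ x ∈ W, g • x ∈ W := by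
    intro g hg x hx
    by_cases hx0 : x = 0
    · rw [hx0, smul_zero]
      exact W.zero_mem
    have h1 := hW (psi e g) hg (pt Φ x hx0) (by rwa [le_iff])
    rwa [psi_pt h, le_iff] at h1
  have hell : W = ell F i j := eq_ell hbot htop fun g hg x hx => hW' g (hHK (hmem g hg)) x hx
  rw [hell] at hW'
  -- counting
  set A : Subgroup S := MulAction.stabilizer S a with hA
  set B : Subgroup S := K.subgroupOf S with hB
  have hBi : B.index = r := h.pi.index_subgroupOf hsupK hindex
  have hAi : A.index = r := by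
    have := h.pi.transitive_S
    rw [hA, MulAction.index_stabilizer_of_transitive]
    exact h.pi.card_points
  have hrel : B.relIndex A = A.relIndex B := by
    have h1 := Subgroup.relIndex_mul_index (inf_le_left : A ⊓ B ≤ A)
    have h2 := Subgroup.relIndex_mul_index (inf_le_right : A ⊓ B ≤ B)
    rw [← h2, hAi, hBi, Subgroup.inf_relIndex_left, Subgroup.inf_relIndex_right] at h1
    exact Nat.eq_of_mul_eq_mul_right h.pi.prime.pos h1
  have h1 : A.relIndex B ≤ Fintype.card F + 1 := by
    have h2 : A.relIndex B = (MulAction.orbit B a).ncard := by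
      rw [← MulAction.index_stabilizer]
      rfl
    rw [h2]
    refine (Set.ncard_le_ncard ?_ (Set.toFinite _)).trans (ncard_ln (Φ := Φ) hij)
    rintro _ ⟨s, rfl⟩
    obtain ⟨g, hg⟩ := psi_surjective (e := e) s.1
    have h3 : s • a = psi e g • a := by rw [hg]; rfl
    change s • a ∈ _
    rw [h3, ha, psi_pt h, mem_ln]
    exact hW' g (by rw [hg]; exact s.2) _ (Ei_mem i j)
  have h2 : Fintype.card F * Fintype.card F ≤ B.relIndex A := by
    have e1 : ∀ x : F × F, pr F j (x.1 • E F k + x.2 • E F l) = 0 := by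
      intro x
      simp [hjk, hjl]
    have e2 : pr F j (E F i) = 0 := by simp [hij.symm]
    have hgA : ∀ x : F × F, psi e (T (x.1 • E F k + x.2 • E F l) (pr F j) (e1 x)) ∈ A := by
      intro x
      rw [hA, MulAction.mem_stabilizer_iff, ha, psi_pt h]
      congr 1
      rw [T_smul, e2, zero_smul, add_zero]
    let m : F × F → A ⧸ B.subgroupOf A := fun x => QuotientGroup.mk ⟨_, hgA x⟩
    have hm : Function.Injective m := by
      intro x y hxy
      have h3 : (⟨_, hgA x⟩ : A)⁻¹ * ⟨_, hgA y⟩ ∈ B.subgroupOf A := QuotientGroup.eq.1 hxy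
      have h4 : (psi e (T (x.1 • E F k + x.2 • E F l) (pr F j) (e1 x)))⁻¹ *
          psi e (T (y.1 • E F k + y.2 • E F l) (pr F j) (e1 y)) ∈ B := h3
      rw [← map_inv, ← map_mul] at h4
      have h5 := hW' _ h4 (E F j) (Ej_mem i j)
      rw [T_inv, mul_smul, T_smul, T_smul] at h5
      have h6 := pr_ell hik.symm hjk.symm h5
      have h7 := pr_ell hil.symm hjl.symm h5
      simp [hjk, hjl, hkl, hjk.symm, hjl.symm, hkl.symm] at h6 h7
      ext
      · linear_combination -h6
      · linear_combination -h7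
    have h3 := Nat.card_le_card_of_injective m hm
    rw [Nat.card_prod, Nat.card_eq_fintype_card] at h3
    exact h3
  have h3 : 2 ≤ Fintype.card F := Fintype.one_lt_card
  rw [hrel] at h2
  have h4 := h2.trans h1
  nlinarith

end

end Cfsg.Agent.H74.Nc
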