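import Cfsg.Agent.H74.PslB

/-!
The possible annihilators `A v ω`: `⟨v⟩`, a plane, or everything.
-/

set_option autoImplicit false
set_option linter.unusedSectionVars false

namespace Cfsg.Agent.H74.Psl

open Matrix Module

variable {F : Type*} [Field F] [Finite F] {n : ℕ}

local notation "𝕍" => Fin n → F
local notation "𝕊" => Matrix.SpecialLinearGroup (Fin n) F

variable {p : ℕ} [Fact p.Prime] [CharP F p]
variable {Ω : Type*} [MulAction (Matrix.SpecialLinearGroup (Fin n) F) Ω] [Finite Ω]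
variable {τ : F →+ ZMod p} (hτ : ∀ c : F, (∀ x, τ (c * x) = 0) → c = 0)

/-- the vectors outside `⟨v⟩` -/
def D0 (v : 𝕍) : Set 𝕍 := {d | d ∉ Submodule.span F ({v} : Set 𝕍)}

theorem span_le_A (v : 𝕍) (ω : Ω) : (Submodule.span F ({v} : Set 𝕍) : Set 𝕍) ⊆ A τ v ω := by
  intro x hx
  obtain ⟨c, rfl⟩ := Submodule.mem_span_singleton.1 hx
  exact A_smul_self τ v ω c

include hτ in
theorem card_A_inter {v : 𝕍} (hv : v ≠ 0) (ω : Ω) :
    (A τ v ω ∩ D0 v).ncard + Nat.card F = Nat.card F * (o v ω).ncard := by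
  rw [← card_A hτ hv, ← card_span_single hv, ← Set.ncard_union_eq]
  · congr 1
    ext x
    simp only [D0, Set.mem_union, Set.mem_inter_iff, Set.mem_ofPred_eq, SetLike.mem_coe]
    constructor
    · rintro (h | h)
      · exact h.1
      · exact span_le_A v ω h
    · intro h
      by_cases hx : x ∈ Submodule.span F ({v} : Set 𝕍)
      · exact Or.inr hx
      · exact Or.inl ⟨h, hx⟩
  · rw [Set.disjoint_left]
    intro x h1 h2
    exact h1.2 h2

theorem card_D0 {v : 𝕍} (hv : v ≠ 0) : (D0 v).ncard + Nat.card F = Nat.card F ^ n := by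
  have h : (D0 v).ncard + (Submodule.span F ({v} : Set 𝕍) : Set 𝕍).ncard =
      (Set.univ : Set 𝕍).ncard := by
    rw [← Set.ncard_union_eq]
    · congr 1
      ext x
      simp only [D0, Set.mem_union, Set.mem_ofPred_eq, SetLike.mem_coe, Set.mem_univ, iff_true]
      exact (em _).symm
    · rw [Set.disjoint_left]
      intro x h1 h2
      exact h1 h2
  rw [card_span_single hv, Set.ncard_univ, Nat.card_fun, Nat.card_fin] at h
  exact h

/-- the stabiliser of `v` -/
abbrev P (v : 𝕍) : Subgroup 𝕊 := MulAction.stabilizer 𝕊 v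

theorem smul_mem_span {g : 𝕊} {v : 𝕍} (hg : g • v = v) {x : 𝕍}
    (hx : x ∈ Submodule.span F ({v} : Set 𝕍)) : g • x ∈ Submodule.span F ({v} : Set 𝕍) := by
  obtain ⟨c, rfl⟩ := Submodule.mem_span_singleton.1 hx
  rw [smul_comm, hg]
  exact Submodule.mem_span_singleton.2 ⟨c, rfl⟩

theorem count_psl (hn : 3 ≤ n) (v : 𝕍) (ω : Ω) {d : 𝕍}
    (hd : d ∉ Submodule.span F ({v} : Set 𝕍)) :
    (MulAction.orbit (P v) ω).ncard * (A τ v ω ∩ D0 v).ncard =
      (D0 v).ncard * {ω' | ω' ∈ MulAction.orbit (P v) ω ∧ d ∈ A τ v ω'}.ncard := by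
  refine count (P := P v) (Ω := Ω) (D := 𝕍) (fun ω => A τ v ω) ?_ (D0 v) ?_ ?_ ω d hd
  · intro g ω d hd
    have := smul_mem_A τ (g : 𝕊) hd
    rw [MulAction.mem_stabilizer_iff.1 g.2] at this
    exact this
  · intro g d hd h
    apply hd
    have := smul_mem_span (MulAction.mem_stabilizer_iff.1 g⁻¹.2) h
    change (g : 𝕊)⁻¹ • ((g : 𝕊) • d) ∈ _ at this
    rwa [inv_smul_smul] at this
  · intro d hd d' hd'
    obtain ⟨g, h1, h2⟩ := trans_stab hn hd hd'
    exact ⟨⟨g, MulAction.mem_stabilizer_iff.2 h1⟩, h2⟩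

theorem o_subset_orbit (v : 𝕍) (ω : Ω) : o v ω ⊆ MulAction.orbit (P v) ω := by
  rintro _ ⟨f, h, rfl⟩
  exact ⟨⟨T v f h, MulAction.mem_stabilizer_iff.2 (by rw [T_smul, h, zero_smul, add_zero])⟩, rfl⟩

theorem o_subset_orbit' {v : 𝕍} {ω ω' : Ω} (h : ω' ∈ MulAction.orbit (P v) ω) :
    o v ω' ⊆ MulAction.orbit (P v) ω := by
  rw [← MulAction.orbit_eq_iff.2 h]
  exact o_subset_orbit v ω'

theorem mem_A_of_mem_o {v : 𝕍} {ω ω' : Ω} (h : ω' ∈ o v ω) {d : 𝕍} :
    d ∈ A τ v ω' ↔ d ∈ A τ v ω := by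
  obtain ⟨f, hf, rfl⟩ := h
  exact A_T τ hf

include hτ in
theorem card_o_eq {v : 𝕍} (hv : v ≠ 0) {ω ω' : Ω} (h : ω' ∈ MulAction.orbit (P v) ω) :
    (o v ω').ncard = (o v ω).ncard := by
  obtain ⟨g, rfl⟩ := h
  have h1 := card_A hτ hv ω
  have h2 := card_A hτ hv (g • ω)
  have hgv : (g : 𝕊) • v = v := MulAction.mem_stabilizer_iff.1 g.2
  have h3 : A τ v (g • ω) = (fun x => (g : 𝕊) • x) '' (A τ v ω) := by
    ext x
    constructor
    · intro hx
      refine ⟨(g : 𝕊)⁻¹ • x, ?_, smul_inv_smul _ _⟩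
      rw [← smul_mem_A_iff τ (g : 𝕊), smul_inv_smul, hgv]
      exact hx
    · rintro ⟨y, hy, rfl⟩
      have := smul_mem_A τ (g : 𝕊) hy
      rw [hgv] at this
      exact this
  rw [h3, Set.ncard_image_of_injective _ (MulAction.injective _), h1] at h2
  exact (Nat.eq_of_mul_eq_mul_left (zero_lt_one.trans one_lt_card) h2).symm

variable {X r : ℕ}

/-- a nonzero dual vector determines the orbit of the transvection group -/
theorem uniq (hτ : ∀ c : F, (∀ x, τ (c * x) = 0) → c = 0)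
    (hn : 3 ≤ n) (hr : Nat.card F = r + 1) (hX : Nat.card F ^ n = Nat.card F * X + Nat.card F)
    (hΩ : Nat.card Ω * r ≤ Nat.card F * X)
    {v : 𝕍} (hv : v ≠ 0) {ω ω' : Ω} {d : 𝕍} (hd : d ∉ Submodule.span F ({v} : Set 𝕍))
    (h1 : d ∈ A τ v ω) (h2 : ω' ∈ MulAction.orbit (P v) ω) (h3 : d ∈ A τ v ω') :
    ω' ∈ o v ω := by
  by_contra hno
  have hc := count_psl (τ := τ) hn v ω hd
  have hI := card_A_inter hτ hv ω
  have hD := card_D0 (F := F) hv
  have hN : 2 * (o v ω).ncard ≤ {ω' | ω' ∈ MulAction.orbit (P v) ω ∧ d ∈ A τ v ω'}.ncard := by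
    rw [two_mul]
    nth_rewrite 2 [← card_o_eq hτ hv h2]
    rw [← Set.ncard_union_eq (disjoint_o hno) (Set.toFinite _) (Set.toFinite _)]
    refine Set.ncard_le_ncard ?_ (Set.toFinite _)
    rintro x (hx | hx)
    · exact ⟨o_subset_orbit v ω hx, (mem_A_of_mem_o hx).2 h1⟩
    · exact ⟨o_subset_orbit' h2 hx, (mem_A_of_mem_o hx).2 h3⟩
  have hO : (MulAction.orbit (P v) ω).ncard ≤ Nat.card Ω := by
    rw [← Set.ncard_univ]
    exact Set.ncard_le_ncard (Set.subset_univ _) (Set.toFinite _)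
  have hq : 1 < Nat.card F := one_lt_card
  have hdm : 1 ≤ (A τ v ω ∩ D0 v).ncard := by
    rw [Nat.one_le_iff_ne_zero, Ne, Set.ncard_eq_zero (Set.toFinite _)]
    intro h
    have : d ∈ A τ v ω ∩ D0 v := ⟨h1, hd⟩
    rw [h] at this
    exact this
  generalize (MulAction.orbit (P v) ω).ncard = O at *
  generalize (A τ v ω ∩ D0 v).ncard = i at *
  generalize {ω' | ω' ∈ MulAction.orbit (P v) ω ∧ d ∈ A τ v ω'}.ncard = N at *
  generalize (D0 v).ncard = D at *
  generalize (o v ω).ncard = a at *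
  generalize Nat.card F = q at *
  generalize Nat.card Ω = w at *
  subst hr
  -- D = q X
  have hD' : D = (r + 1) * X := by omega
  subst hD'
  have hr1 : 1 ≤ r := by omega
  have e1 : O * r * i ≤ (r + 1) * X * i := Nat.mul_le_mul_right i ((Nat.mul_le_mul_right r hO).trans hΩ)
  have e2 : (r + 1) * X * (2 * a) * r ≤ O * r * i := by
    calc (r + 1) * X * (2 * a) * r ≤ (r + 1) * X * N * r := by gcongr
      _ = O * i * r := by rw [hc]
      _ = O * r * i := by ring
  have e3 : (r + 1) * X * (2 * a * r) ≤ (r + 1) * X * i := by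
    calc (r + 1) * X * (2 * a * r) = (r + 1) * X * (2 * a) * r := by ring
      _ ≤ _ := e2.trans e1
  have hXpos : 0 < (r + 1) * X := by
    rcases Nat.eq_zero_or_pos X with h0 | h0
    · subst h0
      exfalso
      have h6 : (r + 1) ^ n = r + 1 := by simpa using hX
      have h7 : (r + 1) ^ n > (r + 1) ^ 1 := Nat.pow_lt_pow_right (by omega) (by omega)
      rw [h6, pow_one] at h7
      omega
    · positivity
  have e4 : 2 * a * r ≤ i := Nat.le_of_mul_le_mul_left e3 hXpos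
  have e5 : i + (r + 1) = (r + 1) * a := hI
  nlinarith

end Cfsg.Agent.H74.Psl
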