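import Cfsg.Agent.H74.PslC

/-!
The trichotomy for `A v ω` and the exclusion of planes.
-/

set_option autoImplicit false
set_option linter.unusedSectionVars false

namespace Cfsg.Agent.H74.Psl

open Matrix Module

variable {F : Type*} [Field F] [Finite F] {n : ℕ}

local notation "𝕍" => Fin n → F
local notation "𝕊" => Matrix.SpecialLinearGroup (Fin n) F

variable {p : ℕ} [Fact p.Prime] [CharP F p]
variable {Ω : Type*} [MulAction (Matrix.SpecialLinearGroup (Fin n) F) Ω] [Finite Ω]
variable {τ : F →+ ZMod p}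

/-- numerical hypotheses: `Ω` has fewer than `(q^n-1)/(q-1)` points -/
structure Small (F : Type*) [Field F] (n : ℕ) (Ω : Type*) (X r : ℕ) : Prop where
  hn : 3 ≤ n
  hr : Nat.card F = r + 1
  hX : Nat.card F ^ n = Nat.card F * X + Nat.card F
  hΩ : Nat.card Ω * r ≤ Nat.card F * X

variable {X r : ℕ}

theorem Small.X_pos (h : Small F n Ω X r) : 0 < X := by
  rcases Nat.eq_zero_or_pos X with h0 | h0
  · exfalso
    have h6 := h.hX
    rw [h0, mul_zero, zero_add] at h6
    have h7 : Nat.card F ^ n > Nat.card F ^ 1 := Nat.pow_lt_pow_right one_lt_card (by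
      have := h.hn
      omega)
    rw [h6, pow_one] at h7
    omega
  · exact h0

/-- elements of `P v` fixing a vector of `A v ω` outside `⟨v⟩` stabilise `A v ω` -/
theorem inv (hs : Small F n Ω X r) (hτ : ∀ c : F, (∀ x, τ (c * x) = 0) → c = 0)
    {v : 𝕍} (hv : v ≠ 0) {ω : Ω} {d : 𝕍} (hd : d ∉ Submodule.span F ({v} : Set 𝕍))
    (h1 : d ∈ A τ v ω) {g : 𝕊} (hg : g • v = v) (hgd : g • d = d) {x : 𝕍} (hx : x ∈ A τ v ω) :
    g • x ∈ A τ v ω := by
  have h2 : g • ω ∈ MulAction.orbit (P v) ω := ⟨⟨g, MulAction.mem_stabilizer_iff.2 hg⟩, rfl⟩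
  have h3 : d ∈ A τ v (g • ω) := by
    have := smul_mem_A τ g h1
    rwa [hg, hgd] at this
  have h4 := uniq hτ hs.hn hs.hr hs.hX hs.hΩ hv hd h1 h2 h3
  have h5 := smul_mem_A τ g hx
  rw [hg] at h5
  exact (mem_A_of_mem_o h4).1 h5

theorem smul_mem_A_of_two (hs : Small F n Ω X r) (hτ : ∀ c : F, (∀ x, τ (c * x) = 0) → c = 0)
    {v : 𝕍} (hv : v ≠ 0) {ω : Ω} {a b : 𝕍} (ha : a ∉ Submodule.span F ({v} : Set 𝕍))
    (hb : b ∉ Submodule.span F ({v, a} : Set 𝕍)) (h1 : a ∈ A τ v ω) (h2 : b ∈ A τ v ω) (c : F) :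
    c • a ∈ A τ v ω := by
  obtain ⟨f, hf, hfb⟩ := sep hb
  have hfv : f v = 0 := hf v (Submodule.subset_span (by simp))
  have hfa : f a = 0 := hf a (Submodule.subset_span (by simp))
  have hfa' : (c • f) a = 0 := by rw [LinearMap.smul_apply, hfa, smul_zero]
  have h3 := inv hs hτ hv ha h1 (g := T a (c • f) hfa')
    (by simp [hfv]) (by simp [hfa]) h2
  rw [T_smul, LinearMap.smul_apply, hfb, smul_eq_mul, mul_one] at h3
  have := A_sub τ h3 h2
  rwa [add_sub_cancel_left] at this

theorem eq_univ_of_two (hs : Small F n Ω X r) (hτ : ∀ c : F, (∀ x, τ (c * x) = 0) → c = 0)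
    {v : 𝕍} (hv : v ≠ 0) {ω : Ω} {a b : 𝕍} (ha : a ∉ Submodule.span F ({v} : Set 𝕍))
    (hb : b ∉ Submodule.span F ({v, a} : Set 𝕍)) (h1 : a ∈ A τ v ω) (h2 : b ∈ A τ v ω) :
    A τ v ω = Set.univ := by
  rw [Set.eq_univ_iff_forall]
  intro e
  by_cases he : e ∈ Submodule.span F ({v, a, b} : Set 𝕍)
  · obtain ⟨x, y, z, rfl⟩ := Submodule.mem_span_triple.1 he
    refine A_add τ (A_add τ (A_smul_self τ v ω x) ?_) ?_
    · exact smul_mem_A_of_two hs hτ hv ha hb h1 h2 y
    · exact smul_mem_A_of_two hs hτ hv (not_mem_single hb) (exch ha hb) h2 h1 z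
  · have hb' : b ∉ Submodule.span F ({v, a, e} : Set 𝕍) := by
      rw [Submodule.mem_span_triple]
      rintro ⟨x, y, z, hz⟩
      by_cases hz0 : z = 0
      · apply hb
        rw [mem_span_pair']
        exact ⟨x, y, by rw [← hz, hz0, zero_smul, add_zero]⟩
      · apply he
        rw [Submodule.mem_span_triple]
        refine ⟨-(z⁻¹ * x), -(z⁻¹ * y), z⁻¹, ?_⟩
        rw [← hz, smul_add, smul_add, smul_smul, smul_smul, smul_smul, inv_mul_cancel₀ hz0,
          one_smul, neg_smul, neg_smul]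
        abel
    obtain ⟨f, hf, hfb⟩ := sep hb'
    have hfv : f v = 0 := hf v (Submodule.subset_span (by simp))
    have hfa : f a = 0 := hf a (Submodule.subset_span (by simp))
    have hfe : f e = 0 := hf e (Submodule.subset_span (by simp))
    have h3 := inv hs hτ hv ha h1 (g := T e f hfe)
      (by simp [hfv]) (by simp [hfa]) h2
    rw [T_smul, hfb, one_smul] at h3
    have := A_sub τ h3 h2
    rwa [add_sub_cancel_left] at this

/-- the number of `ω'` in the orbit with `d ∈ A v ω'` is the size of one small orbit -/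
theorem card_eq (hs : Small F n Ω X r) (hτ : ∀ c : F, (∀ x, τ (c * x) = 0) → c = 0)
    {v : 𝕍} (hv : v ≠ 0) {ω : Ω} {d : 𝕍} (hd : d ∉ Submodule.span F ({v} : Set 𝕍))
    (h1 : d ∈ A τ v ω) :
    (MulAction.orbit (P v) ω).ncard * ((o v ω).ncard - 1) = X * (o v ω).ncard := by
  have hc := count_psl (τ := τ) hs.hn v ω hd
  have hI := card_A_inter hτ hv ω
  have hD := card_D0 (F := F) hv
  have hN : {ω' | ω' ∈ MulAction.orbit (P v) ω ∧ d ∈ A τ v ω'} = o v ω := by
    ext x
    constructor
    · rintro ⟨h2, h3⟩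
      exact uniq hτ hs.hn hs.hr hs.hX hs.hΩ hv hd h1 h2 h3
    · intro hx
      exact ⟨o_subset_orbit v ω hx, (mem_A_of_mem_o hx).2 h1⟩
  rw [hN] at hc
  have hX := hs.hX
  have hq : 0 < Nat.card F := zero_lt_one.trans one_lt_card
  have hD' : (D0 v).ncard = Nat.card F * X := by omega
  have hI' : (A τ v ω ∩ D0 v).ncard = Nat.card F * ((o v ω).ncard - 1) := by
    rw [Nat.mul_sub, mul_one]
    omega
  rw [hD', hI'] at hc
  apply Nat.eq_of_mul_eq_mul_left hq
  calc Nat.card F * ((MulAction.orbit (P v) ω).ncard * ((o v ω).ncard - 1)) =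
      (MulAction.orbit (P v) ω).ncard * (Nat.card F * ((o v ω).ncard - 1)) := by ring
    _ = Nat.card F * X * (o v ω).ncard := hc
    _ = _ := by ring

theorem card_span_pair {v a : 𝕍} (hv : v ≠ 0) (ha : a ∉ Submodule.span F ({v} : Set 𝕍)) :
    (Submodule.span F ({v, a} : Set 𝕍) : Set 𝕍).ncard = Nat.card F ^ 2 := by
  have hfin : Module.Finite F (Submodule.span F ({v, a} : Set 𝕍)) := inferInstance
  have h2 : finrank F (Submodule.span F ({v, a} : Set 𝕍)) = 2 := by
    apply le_antisymm (finrank_span_pair_le v a)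
    have hli : LinearIndependent F ![v, a] := by
      rw [LinearIndependent.pair_iff' hv]
      intro c hc
      exact ha (Submodule.mem_span_singleton.2 ⟨c, hc⟩)
    have := finrank_span_eq_card hli
    have he : Set.range ![v, a] = {v, a} := by simp [Set.pair_comm]
    rw [he] at this
    rw [this, Fintype.card_fin]
  rw [← Nat.card_coe_set_eq]
  change Nat.card (Submodule.span F ({v, a} : Set 𝕍)) = _
  rw [Module.natCard_eq_pow_finrank (K := F), h2]

/-- the trichotomy -/
theorem tri (hs : Small F n Ω X r) (hτ : ∀ c : F, (∀ x, τ (c * x) = 0) → c = 0)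
    {v : 𝕍} (hv : v ≠ 0) (ω : Ω) :
    A τ v ω = (Submodule.span F ({v} : Set 𝕍) : Set 𝕍) ∨ A τ v ω = Set.univ ∨
      ((∃ a, a ∉ Submodule.span F ({v} : Set 𝕍) ∧
        A τ v ω = (Submodule.span F ({v, a} : Set 𝕍) : Set 𝕍)) ∧
        MulAction.orbit (P v) ω = Set.univ) := by
  by_cases h1 : ∃ a ∈ A τ v ω, a ∉ Submodule.span F ({v} : Set 𝕍)
  · right
    obtain ⟨a, ha, ha'⟩ := h1
    by_cases h2 : ∃ b ∈ A τ v ω, b ∉ Submodule.span F ({v, a} : Set 𝕍)
    · obtain ⟨b, hb, hb'⟩ := h2
      exact Or.inl (eq_univ_of_two hs hτ hv ha' hb' ha hb)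
    · right
      push Not at h2
      have hsub : A τ v ω ⊆ (Submodule.span F ({v, a} : Set 𝕍) : Set 𝕍) := h2
      have hc1 := Set.ncard_le_ncard hsub (Set.toFinite _)
      rw [card_span_pair hv ha', card_A hτ hv, pow_two] at hc1
      have hq : 0 < Nat.card F := zero_lt_one.trans one_lt_card
      have hc2 : (o v ω).ncard ≤ Nat.card F := Nat.le_of_mul_le_mul_left hc1 hq
      have hc3 := card_eq hs hτ hv ha' ha
      have hO : (MulAction.orbit (P v) ω).ncard ≤ Nat.card Ω := by
        rw [← Set.ncard_univ]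
        exact Set.ncard_le_ncard (Set.subset_univ _) (Set.toFinite _)
      have hX := hs.X_pos
      have hr := hs.hr
      have hΩ := hs.hΩ
      have hr1 : 1 ≤ r := by
        have := one_lt_card (F := F)
        omega
      have ho : 0 < (o v ω).ncard := by
        rw [Set.ncard_pos (Set.toFinite _)]
        exact ⟨ω, self_mem_o v ω⟩
      have hkey : (o v ω).ncard = Nat.card F ∧
          (MulAction.orbit (P v) ω).ncard = Nat.card Ω := by
        generalize (MulAction.orbit (P v) ω).ncard = O at *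
        generalize (o v ω).ncard = m at *
        generalize Nat.card F = q at *
        generalize Nat.card Ω = w at *
        subst hr
        obtain ⟨b, rfl⟩ : ∃ b, m = b + 1 := ⟨m - 1, by omega⟩
        rw [Nat.add_sub_cancel] at hc3
        have hb : b ≤ r := by omega
        -- O b = X (b+1), O r ≤ (r+1) X
        have e1 : O * r ≤ (r + 1) * X := (Nat.mul_le_mul_right r hO).trans hΩ
        have e2 : X * (b + 1) * r ≤ (r + 1) * X * b := by
          calc X * (b + 1) * r = O * b * r := by rw [hc3]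
            _ = O * r * b := by ring
            _ ≤ _ := Nat.mul_le_mul_right b e1
        have e3 : X * ((b + 1) * r) ≤ X * ((r + 1) * b) := by
          calc X * ((b + 1) * r) = X * (b + 1) * r := by ring
            _ ≤ (r + 1) * X * b := e2
            _ = _ := by ring
        have e4 := Nat.le_of_mul_le_mul_left e3 hX
        have e5 : b = r := by nlinarith
        subst e5
        refine ⟨rfl, le_antisymm hO ?_⟩
        have e6 : w * b ≤ O * b := by rw [hc3]; linarith
        exact Nat.le_of_mul_le_mul_right e6 (by omega)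
      refine ⟨⟨a, ha', ?_⟩, ?_⟩
      · apply Set.eq_of_subset_of_ncard_le hsub _ (Set.toFinite _)
        rw [card_span_pair hv ha', card_A hτ hv, hkey.1, pow_two]
      · apply Set.eq_of_subset_of_ncard_le (Set.subset_univ _) _ (Set.toFinite _)
        rw [Set.ncard_univ, hkey.2]
  · left
    push Not at h1
    exact Set.Subset.antisymm h1 (span_le_A v ω)

theorem sc (g : 𝕊) (c : F) (x : 𝕍) : c • g • x = g • c • x := (smul_comm g c x).symm

/-- planes do not occur -/
theorem no_plane (hs : Small F n Ω X r) (hτ : ∀ c : F, (∀ x, τ (c * x) = 0) → c = 0)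
    {v : 𝕍} (hv : v ≠ 0) (ω : Ω) {a : 𝕍} (ha : a ∉ Submodule.span F ({v} : Set 𝕍))
    (hA : A τ v ω = (Submodule.span F ({v, a} : Set 𝕍) : Set 𝕍))
    (hO : MulAction.orbit (P v) ω = Set.univ) : False := by
  -- planes for all pairs
  have hall : ∀ w : 𝕍, w ≠ 0 → ∃ b : 𝕍, b ∉ Submodule.span F ({w} : Set 𝕍) ∧
      A τ w ω = (Submodule.span F ({w, b} : Set 𝕍) : Set 𝕍) := by
    intro w hw
    obtain ⟨g, rfl⟩ := trans_vec hs.hn hv hw
    have h1 : g⁻¹ • ω ∈ MulAction.orbit (P v) ω := by rw [hO]; trivial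
    obtain ⟨h, hh⟩ := h1
    have hhv : (h : 𝕊) • v = v := MulAction.mem_stabilizer_iff.1 h.2
    have hh' : (h : 𝕊) • ω = g⁻¹ • ω := hh
    have e1 : (g * (h : 𝕊)) • v = g • v := by rw [mul_smul, hhv]
    have e2 : (g * (h : 𝕊)) • ω = ω := by rw [mul_smul, hh', smul_inv_smul]
    have key : ∀ x, x ∈ A τ (g • v) ω ↔ (g * (h : 𝕊))⁻¹ • x ∈ A τ v ω := by
      intro x
      have := smul_mem_A_iff τ (g * (h : 𝕊)) (v := v) (ω := ω) (a := (g * (h : 𝕊))⁻¹ • x)
      rw [smul_inv_smul, e1, e2] at this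
      exact this
    refine ⟨(g * (h : 𝕊)) • a, ?_, ?_⟩
    · intro hc
      apply ha
      obtain ⟨c, hc⟩ := Submodule.mem_span_singleton.1 hc
      rw [← e1, sc] at hc
      rw [Submodule.mem_span_singleton]
      exact ⟨c, MulAction.injective _ hc⟩
    · ext x
      rw [key, hA, SetLike.mem_coe, SetLike.mem_coe, mem_span_pair', mem_span_pair']
      constructor
      · rintro ⟨s, t, h3⟩
        refine ⟨s, t, ?_⟩
        rw [← e1, sc, sc, ← smul_add, h3, smul_inv_smul]
      · rintro ⟨s, t, h3⟩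
        refine ⟨s, t, ?_⟩
        rw [← h3, ← e1, sc, sc, ← smul_add, inv_smul_smul]
  -- functionals vanishing on `A w ω` are in `S w ω`
  have hS : ∀ (w : 𝕍) (f : Dual F 𝕍), (∀ x ∈ A τ w ω, f x = 0) → f ∈ S w ω := by
    intro w f hf
    refine mem_S_of_A hτ fun x hx => ?_
    rw [hf x hx, map_zero]
  -- the invariance
  have hinv : ∀ (w : 𝕍) (f : Dual F 𝕍) (hf : f ∈ S w ω) (u x : 𝕍), f u = 0 → x ∈ A τ u ω →
      f x • w ∈ A τ u ω := by
    intro w f hf u x hu hx
    obtain ⟨h1, h2⟩ := hf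
    have h3 := smul_mem_A τ (T w f h1) hx
    rw [h2, T_smul, hu, zero_smul, add_zero, T_smul] at h3
    have := A_sub τ h3 hx
    rwa [add_sub_cancel_left] at this
  have hsub : ∀ {u w : 𝕍} {c : F}, u ≠ 0 → c ≠ 0 → c • w ∈ A τ u ω → w ∈ A τ u ω := by
    intro u w c hu hc h
    obtain ⟨b, hb, hb'⟩ := hall u hu
    rw [hb'] at h ⊢
    have := Submodule.smul_mem _ c⁻¹ h
    rwa [smul_smul, inv_mul_cancel₀ hc, one_smul] at this
  -- step 1
  have step1 : ∀ w u : 𝕍, w ≠ 0 → u ∈ A τ w ω → u ∉ Submodule.span F ({w} : Set 𝕍) →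
      w ∈ A τ u ω := by
    intro w u hw hu hu'
    by_contra hno
    have hu0 : u ≠ 0 := by
      rintro rfl
      exact hu' (Submodule.zero_mem _)
    obtain ⟨a1, ha1, hA1⟩ := hall w hw
    obtain ⟨b, hb, hAu⟩ := hall u hu0
    have hAw : A τ w ω = (Submodule.span F ({w, u} : Set 𝕍) : Set 𝕍) := by
      symm
      apply Set.eq_of_subset_of_ncard_le _ _ (Set.toFinite _)
      · rw [hA1]
        rw [hA1] at hu
        apply Submodule.span_le.2
        rintro x (rfl | rfl)
        · exact Submodule.subset_span (by simp)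
        · exact hu
      · rw [hA1, card_span_pair hw ha1, card_span_pair hw hu']
    by_cases hbw : b ∈ Submodule.span F ({w, u} : Set 𝕍)
    · obtain ⟨s, t, hst⟩ := mem_span_pair'.1 hbw
      have hs0 : s ≠ 0 := by
        rintro rfl
        apply hb
        rw [Submodule.mem_span_singleton]
        exact ⟨t, by rw [← hst, zero_smul, zero_add]⟩
      apply hno
      apply hsub hu0 hs0
      have hbm : b ∈ A τ u ω := by rw [hAu]; exact Submodule.subset_span (by simp)
      have := A_sub τ hbm (A_smul_self τ u ω t)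
      rwa [← hst, add_sub_cancel_right] at this
    · obtain ⟨f, hf, hfb⟩ := sep hbw
      have hfS : f ∈ S w ω := hS w f fun x hx => hf x (by rw [hAw] at hx; exact hx)
      have hbm : b ∈ A τ u ω := by rw [hAu]; exact Submodule.subset_span (by simp)
      have := hinv w f hfS u b (hf u (Submodule.subset_span (by simp))) hbm
      rw [hfb, one_smul] at this
      exact hno this
  -- equality of planes
  have heq : ∀ w u : 𝕍, w ≠ 0 → u ∈ A τ w ω → u ∉ Submodule.span F ({w} : Set 𝕍) →
      A τ w ω = (Submodule.span F ({w, u} : Set 𝕍) : Set 𝕍) := by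
    intro w u hw hu hu'
    obtain ⟨a1, ha1, hA1⟩ := hall w hw
    symm
    apply Set.eq_of_subset_of_ncard_le _ _ (Set.toFinite _)
    · rw [hA1]
      rw [hA1] at hu
      apply Submodule.span_le.2
      rintro x (rfl | rfl)
      · exact Submodule.subset_span (by simp)
      · exact hu
    · rw [hA1, card_span_pair hw ha1, card_span_pair hw hu']
  have heq2 : ∀ w u : 𝕍, w ≠ 0 → u ∈ A τ w ω → u ∉ Submodule.span F ({w} : Set 𝕍) →
      A τ u ω = A τ w ω := by
    intro w u hw hu hu'
    have hu0 : u ≠ 0 := by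
      rintro rfl
      exact hu' (Submodule.zero_mem _)
    rw [heq w u hw hu hu', heq u w hu0 (step1 w u hw hu hu') (swap_single hw hu'),
      Set.pair_comm]
  -- step 2
  obtain ⟨u, hu⟩ := exists_notMem_pair (F := F) hs.hn v a
  have hu0 : u ≠ 0 := by
    rintro rfl
    exact hu (Submodule.zero_mem _)
  have huA : u ∉ A τ v ω := by rw [hA]; exact hu
  have hvu : v ∉ A τ u ω := by
    intro h
    exact huA (step1 u v hu0 h (swap_single hv (not_mem_single hu)))
  obtain ⟨b, hb, hAu⟩ := hall u hu0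
  have hbm : b ∈ A τ u ω := by rw [hAu]; exact Submodule.subset_span (by simp)
  have hbspan : b ∈ Submodule.span F ({v, a, u} : Set 𝕍) := by
    by_contra hno
    obtain ⟨f, hf, hfb⟩ := sep hno
    have hfS : f ∈ S v ω := hS v f fun x hx => hf x (by
      rw [hA] at hx
      exact Submodule.span_mono (by
        rintro y (rfl | rfl) <;> simp) hx)
    have := hinv v f hfS u b (hf u (Submodule.subset_span (by simp))) hbm
    rw [hfb, one_smul] at this
    exact hvu this
  obtain ⟨x, y, z, hb'⟩ := Submodule.mem_span_triple.1 hbspan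
  -- `c := x v + y a`
  have hc1 : x • v + y • a ∈ A τ v ω := by
    rw [hA, SetLike.mem_coe, mem_span_pair']
    exact ⟨x, y, rfl⟩
  have hc2 : x • v + y • a ∈ A τ u ω := by
    have := A_sub τ hbm (A_smul_self τ u ω z)
    rwa [← hb', add_sub_cancel_right] at this
  have hc3 : x • v + y • a ∉ Submodule.span F ({u} : Set 𝕍) := by
    intro h
    apply hb
    rw [← hb']
    exact Submodule.add_mem _ h (Submodule.smul_mem _ _ (Submodule.mem_span_singleton_self u))
  have hc4 : x • v + y • a ∉ Submodule.span F ({v} : Set 𝕍) := by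
    intro h
    obtain ⟨c, hc⟩ := Submodule.mem_span_singleton.1 h
    by_cases hc0 : c = 0
    · rw [hc0, zero_smul] at hc
      apply hc3
      rw [← hc]
      exact Submodule.zero_mem _
    · apply hvu
      apply hsub hu0 hc0
      rw [hc]
      exact hc2
  have e1 := heq2 v _ hv hc1 hc4
  have e2 := heq2 u _ hu0 hc2 hc3
  apply huA
  rw [← e1, e2]
  have := A_smul_self τ u ω 1
  rwa [one_smul] at this

/-- **The dichotomy**: `G_ω` contains all or none of the transvections with a given centre. -/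
theorem dich (hs : Small F n Ω X r) (hτ : ∀ c : F, (∀ x, τ (c * x) = 0) → c = 0)
    {v : 𝕍} (hv : v ≠ 0) (ω : Ω) :
    (∀ (f : Dual F 𝕍) (h : f v = 0), T v f h • ω = ω) ∨
      ((∀ (f : Dual F 𝕍) (h : f v = 0), T v f h • ω = ω → f = 0) ∧
        Nat.card F * (o v ω).ncard = Nat.card F ^ n) := by
  rcases tri hs hτ hv ω with h | h | ⟨⟨a, ha, hA⟩, hO⟩
  · left
    intro f hf
    have : f ∈ S v ω := by
      apply mem_S_of_A hτ
      intro x hx
      rw [h] at hx
      obtain ⟨c, rfl⟩ := Submodule.mem_span_singleton.1 hx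
      rw [map_smul, hf, smul_zero, map_zero]
    exact this.2
  · right
    constructor
    · intro f hf h1
      have hfS : f ∈ S v ω := ⟨hf, h1⟩
      apply LinearMap.ext
      intro x
      refine hτ _ fun c => ?_
      have : c • x ∈ A τ v ω := by rw [h]; trivial
      have := this f hfS
      rwa [map_smul, smul_eq_mul, mul_comm] at this
    · rw [← card_A hτ hv, h, Set.ncard_univ, Nat.card_fun, Nat.card_fin]
  · exact (no_plane hs hτ hv ω ha hA hO).elim

end Cfsg.Agent.H74.Psl
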