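import Cfsg.Agent.H74.SpA

/-!
Linear algebra of a nondegenerate alternating form, transitivity of transvections, indices of
stabilisers of sets of vectors.
-/

set_option autoImplicit false
set_option linter.unusedSectionVars false
set_option linter.unusedSimpArgs false

namespace Cfsg.Agent.H74.Psp

open Module

variable {F V : Type*} [Field F] [AddCommGroup V] [Module F V] {B : V →ₗ[F] V →ₗ[F] F}

section Lin

variable [FiniteDimensional F V] (hB : Symp B)
include hB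

theorem repr (f : Dual F V) : ∃ y, ∀ x, B x y = f x := by
  have hi : Function.Injective B.flip := by
    rw [injective_iff_map_eq_zero]
    intro x hx
    refine hB.nd x fun y => ?_
    rw [skew hB, show B y x = B.flip x y from rfl, hx, LinearMap.zero_apply, neg_zero]
  have hs : Function.Surjective B.flip := by
    refine (LinearMap.injective_iff_surjective_of_finrank_eq_finrank ?_).1 hi
    exact (Subspace.dual_finrank_eq).symm
  obtain ⟨y, hy⟩ := hs f
  exact ⟨y, fun x => by rw [← hy]; rfl⟩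

theorem sep (W : Submodule F V) {z : V} (hz : z ∉ W) :
    ∃ y, (∀ x ∈ W, B x y = 0) ∧ B z y = 1 := by
  obtain ⟨f, hf1, hf2⟩ := Submodule.exists_dual_map_eq_bot_of_notMem hz inferInstance
  obtain ⟨y, hy⟩ := repr hB ((f z)⁻¹ • f)
  refine ⟨y, fun x hx => ?_, ?_⟩
  · rw [hy]
    have : f x ∈ W.map f := ⟨x, hx, rfl⟩
    rw [hf2, Submodule.mem_bot] at this
    simp [this]
  · rw [hy]
    simp [hf1]

theorem sep0 {z : V} (hz : z ≠ 0) : ∃ y, B z y = 1 := by
  obtain ⟨y, -, h⟩ := sep hB ⊥ (by simpa using hz)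
  exact ⟨y, h⟩

theorem sep1 {v z : V} (hz : ∀ a : F, z ≠ a • v) : ∃ y, B v y = 0 ∧ B z y = 1 := by
  obtain ⟨y, h1, h⟩ := sep hB (Submodule.span F {v}) (z := z) (by
    rw [Submodule.mem_span_singleton]
    rintro ⟨a, rfl⟩
    exact hz a rfl)
  exact ⟨y, h1 v (Submodule.mem_span_singleton_self v), h⟩

theorem sep2 {v x z : V} (hz : ∀ a b : F, z ≠ a • v + b • x) :
    ∃ y, B v y = 0 ∧ B x y = 0 ∧ B z y = 1 := by
  obtain ⟨y, h1, h⟩ := sep hB (Submodule.span F {v, x}) (z := z) (by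
    rw [Submodule.mem_span_pair]
    rintro ⟨a, b, h⟩
    exact hz a b h.symm)
  exact ⟨y, h1 v (Submodule.subset_span (by simp)), h1 x (Submodule.subset_span (by simp)), h⟩

/-- one transvection moves `x` to `y` -/
theorem t_move {x y : V} (h : B x y ≠ 0) : t B (y - x) (B x y)⁻¹ • x = y := by
  rw [t_smul hB, map_sub, hB.alt, sub_zero, inv_mul_cancel₀ h, one_smul, add_sub_cancel]

theorem exists_both {v x y : V} (hx : ∀ a : F, x ≠ a • v) (hy : ∀ a : F, y ≠ a • v) :
    ∃ z, B v z = 0 ∧ B x z ≠ 0 ∧ B y z ≠ 0 := by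
  obtain ⟨z1, h1, h2⟩ := sep1 hB hx
  obtain ⟨z2, h3, h4⟩ := sep1 hB hy
  by_cases h5 : B y z1 = 0
  · by_cases h6 : B x z2 = 0
    · exact ⟨z1 + z2, by rw [map_add, h1, h3, add_zero], by rw [map_add, h2, h6]; simp,
        by rw [map_add, h5, h4]; simp⟩
    · exact ⟨z2, h3, h6, by rw [h4]; simp⟩
  · exact ⟨z1, h1, by rw [h2]; simp, h5⟩

/-- the stabiliser of `v` is transitive on `v^⊥ \ Fv` -/
theorem trans1 {v x y : V} (hvx : B v x = 0) (hvy : B v y = 0) (hx : ∀ a : F, x ≠ a • v)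
    (hy : ∀ a : F, y ≠ a • v) : ∃ g : Sp B, g • v = v ∧ g • x = y := by
  obtain ⟨z, h1, h2, h3⟩ := exists_both hB hx hy
  have h4 : B z y ≠ 0 := by rw [skew hB]; exact neg_ne_zero.2 h3
  refine ⟨t B (y - z) (B z y)⁻¹ * t B (z - x) (B x z)⁻¹, ?_, ?_⟩
  · have e1 : B (z - x) v = 0 := orth_symm hB (by simp [h1, hvx])
    have e2 : B (y - z) v = 0 := orth_symm hB (by simp [h1, hvy])
    rw [mul_smul, t_smul_orth hB _ _ e1, t_smul_orth hB _ _ e2]
  · rw [mul_smul, t_move hB h2, t_move hB h4]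

/-- transitivity on nonzero vectors -/
theorem trans0 {x y : V} (hx : x ≠ 0) (hy : y ≠ 0) : ∃ g : Sp B, g • x = y := by
  obtain ⟨g, -, h⟩ := trans1 hB (v := 0) (x := x) (y := y) (by simp) (by simp)
    (by simpa using hx) (by simpa using hy)
  exact ⟨g, h⟩

end Lin

section Fin

variable [Finite V]

instance : Finite (V ≃ₗ[F] V) := by
  refine Finite.of_injective (fun g : V ≃ₗ[F] V => (g : V → V)) ?_
  intro g h hgh
  exact LinearEquiv.ext fun x => congrFun hgh x

/-- translates of an `H`-invariant set of vectors -/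
def tr (H : Subgroup (Sp B)) (S : Set V) (ω : Sp B ⧸ H) : Set V :=
  {x | ∃ g : Sp B, (g : Sp B ⧸ H) = ω ∧ g⁻¹ • x ∈ S}

theorem mem_tr_mk {H : Subgroup (Sp B)} {S : Set V} (hS : ∀ h ∈ H, ∀ x ∈ S, h • x ∈ S)
    (g : Sp B) (x : V) : x ∈ tr H S (g : Sp B ⧸ H) ↔ g⁻¹ • x ∈ S := by
  constructor
  · rintro ⟨g', h1, h2⟩
    rw [QuotientGroup.eq] at h1
    have := hS _ (H.inv_mem h1) _ h2
    rw [mul_inv_rev, inv_inv, mul_smul, smul_inv_smul] at this
    exact this
  · intro h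
    exact ⟨g, rfl, h⟩

theorem tr_smul {H : Subgroup (Sp B)} {S : Set V}
    (g : Sp B) (ω : Sp B ⧸ H) (x : V) (hx : x ∈ tr H S ω) : g • x ∈ tr H S (g • ω) := by
  obtain ⟨g', rfl, h⟩ := hx
  exact ⟨g * g', rfl, by rwa [mul_inv_rev, mul_smul, inv_smul_smul]⟩

/-- index through the translates of an invariant set of vectors -/
theorem idx [FiniteDimensional F V] (hB : Symp B) {H : Subgroup (Sp B)} {S : Set V}
    (hS : ∀ h ∈ H, ∀ x ∈ S, h • x ∈ S) (hS0 : (0 : V) ∉ S) {x0 : V} (hx0 : x0 ≠ 0) :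
    H.index * S.ncard = (Nat.card V - 1) * {ω : Sp B ⧸ H | x0 ∈ tr H S ω}.ncard := by
  have key := H74.count (P := Sp B) (Ω := Sp B ⧸ H) (D := V) (tr H S)
    (fun g ω x hx => tr_smul g ω x hx) {x | x ≠ 0}
    (fun g x hx => (smul_ne_zero_iff_ne g).2 hx)
    (fun x hx y hy => trans0 hB hx hy) (1 : Sp B) x0 hx0
  have h1 : MulAction.orbit (Sp B) ((1 : Sp B) : Sp B ⧸ H) = Set.univ := by
    rw [MulAction.orbit_eq_univ]
  have h2 : tr H S ((1 : Sp B) : Sp B ⧸ H) ∩ {x | x ≠ 0} = S := by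
    ext x
    rw [Set.mem_inter_iff, mem_tr_mk hS, inv_one, one_smul]
    constructor
    · exact fun h => h.1
    · exact fun h => ⟨h, fun h0 => hS0 (h0 ▸ h)⟩
  have h3 : ({x : V | x ≠ 0}).ncard = Nat.card V - 1 := by
    have : ({x : V | x ≠ 0}) = ({0} : Set V)ᶜ := rfl
    rw [this, Set.ncard_compl, Set.ncard_singleton]
  rw [h1, h2, h3, Set.ncard_univ] at key
  simpa [Subgroup.index] using key

end Fin

end Cfsg.Agent.H74.Psp
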