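import Cfsg.Agent.H74.SpC

/-!
The main counting theorem.
-/

set_option autoImplicit false
set_option linter.unusedSectionVars false
set_option linter.unusedSimpArgs false

namespace Cfsg.Agent.H74.Psp

open Module

/-! ### arithmetic -/

theorem ar_o {X α β κ o c : ℕ} (hα : 2 ≤ α) (hαX : α ≤ X) (h : o * (α - 1) = (X - 1) * κ)
    (hκ : c * (α * β) ≤ κ) : c * (X * β) ≤ o := by
  obtain ⟨a, rfl⟩ : ∃ a, α = a + 2 := ⟨α - 2, by omega⟩
  obtain ⟨x, rfl⟩ : ∃ x, X = x + 2 := ⟨X - 2, by omega⟩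
  simp only [Nat.add_sub_cancel, show a + 2 - 1 = a + 1 by omega,
    show x + 2 - 1 = x + 1 by omega] at h
  have h1 : (x + 1) * (c * ((a + 2) * β)) ≤ o * (a + 1) := by
    rw [h]; exact Nat.mul_le_mul_left _ hκ
  have h2 : (c * ((x + 2) * β)) * (a + 1) ≤ (x + 1) * (c * ((a + 2) * β)) := by
    have : (x + 2) * (a + 1) ≤ (x + 1) * (a + 2) := by nlinarith
    calc (c * ((x + 2) * β)) * (a + 1) = (c * β) * ((x + 2) * (a + 1)) := by ring
      _ ≤ (c * β) * ((x + 1) * (a + 2)) := Nat.mul_le_mul_left _ this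
      _ = _ := by ring
  exact Nat.le_of_mul_le_mul_right (h2.trans h1) (Nat.succ_pos a)

theorem ar_big {q X n o T : ℕ} (hq : 2 ≤ q) (hT : 0 < T) (hTq : T ≤ q - 1)
    (h2 : (q - 1) * o ≤ n * T) (ho : 2 * (X * q) ≤ o) (hn : n * (q - 1) < q ^ 2 * X) : False := by
  have h3 : o ≤ n := by
    have : T * o ≤ n * T := (Nat.mul_le_mul_right o hTq).trans h2
    rw [mul_comm n T] at this
    exact Nat.le_of_mul_le_mul_left this hT
  have h4 : 2 * (X * q) * (q - 1) ≤ n * (q - 1) := Nat.mul_le_mul_right _ (ho.trans h3)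
  obtain ⟨r, rfl⟩ : ∃ r, q = r + 2 := ⟨q - 2, by omega⟩
  simp only [show r + 2 - 1 = r + 1 by omega] at *
  nlinarith [Nat.zero_le (X * r), Nat.zero_le (X * r ^ 2)]

theorem ar_small {q X n β : ℕ} (hβ : 2 ≤ β) (hβq : 2 * β ≤ q)
    (h : (q - 1) * (X * β) ≤ n * (β - 1)) (hn : n * (q - 1) < q ^ 2 * X) : False := by
  obtain ⟨b, rfl⟩ : ∃ b, β = b + 2 := ⟨β - 2, by omega⟩
  obtain ⟨r, rfl⟩ : ∃ r, q = 2 * (b + 2) + r := ⟨q - 2 * (b + 2), by omega⟩
  have e1 : 2 * (b + 2) + r - 1 = 2 * b + 3 + r := by omega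
  have e2 : b + 2 - 1 = b + 1 := by omega
  rw [e1] at h hn
  rw [e2] at h
  have h1 : (2 * b + 3 + r) * ((2 * b + 3 + r) * (X * (b + 2))) ≤
      (b + 1) * (n * (2 * b + 3 + r)) := by
    calc (2 * b + 3 + r) * ((2 * b + 3 + r) * (X * (b + 2))) ≤
        (2 * b + 3 + r) * (n * (b + 1)) := Nat.mul_le_mul_left _ h
      _ = _ := by ring
  have h2 : (b + 1) * (n * (2 * b + 3 + r)) < (b + 1) * ((2 * (b + 2) + r) ^ 2 * X) :=
    Nat.mul_lt_mul_of_pos_left hn (Nat.succ_pos b)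
  have h3 := h1.trans_lt h2
  have h4 : (b + 1) * ((2 * (b + 2) + r) ^ 2 * X) ≤
      (2 * b + 3 + r) * ((2 * b + 3 + r) * (X * (b + 2))) := by
    have : (b + 1) * (2 * (b + 2) + r) ^ 2 ≤ (2 * b + 3 + r) * (2 * b + 3 + r) * (b + 2) := by
      nlinarith [Nat.zero_le (b * r), Nat.zero_le (r ^ 2), Nat.zero_le (b ^ 2)]
    calc (b + 1) * ((2 * (b + 2) + r) ^ 2 * X) = ((b + 1) * (2 * (b + 2) + r) ^ 2) * X := by ring
      _ ≤ ((2 * b + 3 + r) * (2 * b + 3 + r) * (b + 2)) * X := Nat.mul_le_mul_right _ this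
      _ = _ := by ring
  exact absurd h3 (not_lt.2 h4)

theorem ar_alpha {q X n o α κ : ℕ} (hq : 2 ≤ q) (hX : q ^ 2 ≤ X) (hα : 2 ≤ α) (hαq : 2 * α ≤ q)
    (h : o * (α - 1) = (X - 1) * κ) (hκ : α * q ≤ κ) (ho : o ≤ n)
    (hn : n * (q - 1) < q ^ 2 * X - 1) : False := by
  have hX1 : 1 ≤ X := le_trans (by nlinarith) hX
  obtain ⟨a, rfl⟩ : ∃ a, α = a + 1 := ⟨α - 1, by omega⟩
  obtain ⟨r, rfl⟩ : ∃ r, q = r + 1 := ⟨q - 1, by omega⟩
  obtain ⟨x, rfl⟩ : ∃ x, X = x + 1 := ⟨X - 1, by omega⟩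
  simp only [Nat.add_sub_cancel] at h hn
  have h1 : x * ((a + 1) * (r + 1)) ≤ n * a := by
    calc x * ((a + 1) * (r + 1)) ≤ x * κ := Nat.mul_le_mul_left _ hκ
      _ = o * a := h.symm
      _ ≤ n * a := Nat.mul_le_mul_right _ ho
  have h2 : r * (x * ((a + 1) * (r + 1))) ≤ (n * r) * a := by
    calc r * (x * ((a + 1) * (r + 1))) ≤ r * (n * a) := Nat.mul_le_mul_left _ h1
      _ = _ := by ring
  have h3 : (n * r + 2) * a ≤ ((r + 1) ^ 2 * (x + 1)) * a := by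
    refine Nat.mul_le_mul_right _ ?_
    omega
  have h4 : r * (x * ((a + 1) * (r + 1))) + 2 * a ≤ ((r + 1) ^ 2 * (x + 1)) * a := by
    linarith
  have h5 : (r + 1) * (x + 1) * (2 * (a + 1)) ≤ (r + 1) * (x + 1) * (r + 1) :=
    Nat.mul_le_mul_left _ hαq
  have h6 : (r + 1) ^ 2 * (2 * (a + 1)) ≤ (r + 1) ^ 2 * (x + 1) := by
    refine Nat.mul_le_mul_left _ (hαq.trans ?_)
    nlinarith
  nlinarith

variable {F V : Type*} [Field F] [AddCommGroup V] [Module F V] {B : V →ₗ[F] V →ₗ[F] F}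

theorem Rs_conj (hB : Symp B) {Ω : Type*} [MulAction (Sp B) Ω] {v : V} {g : Sp B}
    (hg : g • v = v) {ω : Ω} {w : V}
    (hw : w ∈ Rs hB (MulAction.stabilizer (Sp B) (g • ω)) v) :
    g⁻¹ • w ∈ Rs hB (MulAction.stabilizer (Sp B) ω) v := by
  obtain ⟨h1, c, h2⟩ := hw
  have hg' : g⁻¹ • v = v := by rw [inv_smul_eq_iff, hg]
  refine ⟨?_, c, ?_⟩
  · rw [← B_smul_left, hg, h1]
  · have := conj_E hB g⁻¹ h1 c
    rw [hg', inv_inv] at this
    rw [← this, MulAction.mem_stabilizer_iff, mul_smul, mul_smul,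
      MulAction.mem_stabilizer_iff.1 h2, inv_smul_smul]

theorem As_conj {p : ℕ} {τ : F →+ ZMod p} (hB : Symp B) {Ω : Type*} [MulAction (Sp B) Ω] {v : V}
    {g : Sp B} (hg : g • v = v) {ω : Ω} {x : V}
    (hx : x ∈ As τ hB (MulAction.stabilizer (Sp B) ω) v) :
    g • x ∈ As τ hB (MulAction.stabilizer (Sp B) (g • ω)) v := by
  intro w hw
  rw [B_smul_left]
  exact hx _ (Rs_conj hB hg hw)

theorem Z0_conj (hB : Symp B) {Ω : Type*} [MulAction (Sp B) Ω] {v : V}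
    {g : Sp B} (hg : g • v = v) {ω : Ω} :
    Z0 hB (MulAction.stabilizer (Sp B) (g • ω)) v = Z0 hB (MulAction.stabilizer (Sp B) ω) v := by
  have key : ∀ (g : Sp B) (hg : g • v = v) (ω : Ω) (c : F),
      c ∈ Z0 hB (MulAction.stabilizer (Sp B) ω) v →
      c ∈ Z0 hB (MulAction.stabilizer (Sp B) (g • ω)) v := by
    intro g hg ω c hc
    rw [mem_Z0] at hc ⊢
    have := conj_t hB g v c
    rw [hg] at this
    rw [← this, MulAction.mem_stabilizer_iff, mul_smul, mul_smul, inv_smul_smul,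
      MulAction.mem_stabilizer_iff.1 hc]
  ext c
  refine ⟨fun h => ?_, key g hg ω c⟩
  have := key g⁻¹ (by rw [inv_smul_eq_iff, hg]) _ c h
  rwa [inv_smul_smul] at this

theorem Qorb_sub_stab (hB : Symp B) {Ω : Type*} [MulAction (Sp B) Ω] {v : V} {ω ω' : Ω}
    (h : ω' ∈ Qorb B v ω) : ∃ g : Sp B, g • v = v ∧ (∀ x, B v x = 0 → ∃ a : F, g • x = x + a • v) ∧
      g • ω = ω' := by
  obtain ⟨w, c, h1, h2⟩ := h
  exact ⟨E B v w c, E_smul_v hB h1 c, fun x hx => ⟨_, E_smul_orth hB h1 c hx⟩, h2⟩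

theorem mem_Qorb_self (hB : Symp B) {Ω : Type*} [MulAction (Sp B) Ω] (v : V) (ω : Ω) :
    ω ∈ Qorb B v ω := ⟨0, 0, map_zero _, by rw [E_one hB, one_smul]⟩

theorem Qorb_symm (hB : Symp B) {Ω : Type*} [MulAction (Sp B) Ω] {v : V} {ω ω' : Ω}
    (h : ω' ∈ Qorb B v ω) : ω ∈ Qorb B v ω' := by
  obtain ⟨w, c, h1, h2⟩ := h
  refine ⟨-w, -c, by rw [map_neg, h1, neg_zero], ?_⟩
  rw [← E_inv hB h1, ← h2, inv_smul_smul]

theorem Qorb_trans (hB : Symp B) {Ω : Type*} [MulAction (Sp B) Ω] {v : V} {ω ω' ω'' : Ω}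
    (h : ω' ∈ Qorb B v ω) (h' : ω'' ∈ Qorb B v ω') : ω'' ∈ Qorb B v ω := by
  obtain ⟨w, c, h1, h2⟩ := h
  obtain ⟨w', c', h1', h2'⟩ := h'
  refine ⟨w' + w, c' + c + B w w', by rw [map_add, h1, h1', add_zero], ?_⟩
  rw [← h2', ← h2, ← mul_smul, E_mul hB h1' h1]

theorem fix_orth {v : V} {g : Sp B} (hg : g • v = v) (x : V) : B v (g • x) = B v x := by
  conv_lhs => rw [← hg]
  exact B_smul_smul g v x

theorem fix_line {v : V} {g : Sp B} (hg : g • v = v) {x : V} {a : F} (h : g • x = a • v) :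
    x = a • v := by
  have h1 : g • x = g • (a • v) := by rw [h, smul_fsmul, hg]
  exact (MulAction.injective g) h1

/-- the count over one orbit of the stabiliser of `v` -/
theorem count_orbit {p : ℕ} {τ : F →+ ZMod p} (hτ : ∀ c : F, (∀ x, τ (c * x) = 0) → c = 0)
    [Fact p.Prime] [CharP F p] [Finite V] [Finite F] (hB : Symp B)
    {Ω : Type*} [MulAction (Sp B) Ω] [Finite Ω] {v : V} (hv : v ≠ 0) (ω : Ω) {x : V}
    (hx1 : B v x = 0) (hx2 : ∀ a : F, x ≠ a • v) :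
    (MulAction.orbit (MulAction.stabilizer (Sp B) v) ω).ncard *
      (Nat.card (As τ hB (MulAction.stabilizer (Sp B) ω) v) - Nat.card F) =
    (Nat.card {w : V // B v w = 0} - Nat.card F) *
      {ω' | ω' ∈ MulAction.orbit (MulAction.stabilizer (Sp B) v) ω ∧
        x ∈ As τ hB (MulAction.stabilizer (Sp B) ω') v}.ncard := by
  have hsm : ∀ (g : MulAction.stabilizer (Sp B) v) (x : V), g • x = (g : Sp B) • x :=
    fun _ _ => rfl
  have hsm' : ∀ (g : MulAction.stabilizer (Sp B) v) (x : Ω), g • x = (g : Sp B) • x :=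
    fun _ _ => rfl
  have hst : ∀ (g : MulAction.stabilizer (Sp B) v), (g : Sp B) • v = v := fun g => g.2
  have hline : (Set.range fun a : F => a • v).ncard = Nat.card F := by
    rw [← Set.image_univ, Set.ncard_image_of_injective _ (smul_left_injective F hv),
      Set.ncard_univ]
  have key := H74.count (P := MulAction.stabilizer (Sp B) v) (Ω := Ω) (D := V)
    (fun ω' => (As τ hB (MulAction.stabilizer (Sp B) ω') v : Set V))
    (fun g ω' d hd => As_conj hB g.2 hd) {x | B v x = 0 ∧ ∀ a : F, x ≠ a • v}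
    (by
      rintro g d ⟨h1, h2⟩
      refine ⟨?_, fun a ha => h2 a ?_⟩
      · rw [hsm, fix_orth (hst g), h1]
      · exact fix_line (hst g) ha)
    (by
      rintro d ⟨h1, h2⟩ d' ⟨h1', h2'⟩
      obtain ⟨g, hg, hd⟩ := trans1 hB h1 h1' h2 h2'
      exact ⟨⟨g, hg⟩, hd⟩) ω x ⟨hx1, hx2⟩
  have e1 : ((As τ hB (MulAction.stabilizer (Sp B) ω) v : Set V) ∩
      {x | B v x = 0 ∧ ∀ a : F, x ≠ a • v}).ncard =
      Nat.card (As τ hB (MulAction.stabilizer (Sp B) ω) v) - Nat.card F := by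
    have : ((As τ hB (MulAction.stabilizer (Sp B) ω) v : Set V) ∩
      {x | B v x = 0 ∧ ∀ a : F, x ≠ a • v}) =
      (As τ hB (MulAction.stabilizer (Sp B) ω) v : Set V) \ (Set.range fun a : F => a • v) := by
      ext y
      simp only [Set.mem_inter_iff, Set.mem_sdiff, Set.mem_range, not_exists]
      constructor
      · rintro ⟨h1, h2, h3⟩
        exact ⟨h1, fun a ha => h3 a ha.symm⟩
      · rintro ⟨h1, h2⟩
        exact ⟨h1, As_orth hτ h1, fun a ha => h2 a ha.symm⟩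
    rw [this, Set.ncard_sdiff, hline]
    · rfl
    · rintro _ ⟨a, rfl⟩
      exact v_mem_As a
  have e2 : ({x | B v x = 0 ∧ ∀ a : F, x ≠ a • v} : Set V).ncard =
      Nat.card {w : V // B v w = 0} - Nat.card F := by
    have : ({x | B v x = 0 ∧ ∀ a : F, x ≠ a • v} : Set V) =
      {w | B v w = 0} \ (Set.range fun a : F => a • v) := by
      ext y
      simp only [Set.mem_sdiff, Set.mem_range, not_exists, Set.mem_ofPred_eq]
      constructor
      · rintro ⟨h2, h3⟩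
        exact ⟨h2, fun a ha => h3 a ha.symm⟩
      · rintro ⟨h1, h2⟩
        exact ⟨h1, fun a ha => h2 a ha.symm⟩
    rw [this, Set.ncard_sdiff, hline]
    · rfl
    · rintro _ ⟨a, rfl⟩
      simp [hB.alt]
  rw [e1, e2] at key
  exact key

end Cfsg.Agent.H74.Psp
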