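import Cfsg.Agent.H74.SpG

/-!
Overgroups of `Sp(U)`, `U` nondegenerate of codimension two.
-/

set_option autoImplicit false
set_option linter.unusedSectionVars false
set_option linter.unusedSimpArgs false

namespace Cfsg.Agent.H74.Psp

open Module

variable {F V : Type*} [Field F] [AddCommGroup V] [Module F V] {B : V →ₗ[F] V →ₗ[F] F}

theorem mem_tr_iff {H : Subgroup (Sp B)} {S : Set V} {g : Sp B} {x : V} (h : g⁻¹ • x ∈ S) :
    x ∈ tr H S (g : Sp B ⧸ H) := ⟨g, rfl, h⟩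

section Idx

variable [Finite V] [Finite F] (hB : Symp B) {H : Subgroup (Sp B)}
include hB

theorem idx_ge {S : Set V} (hS : ∀ h ∈ H, ∀ x ∈ S, h • x ∈ S) (hS0 : (0 : V) ∉ S) {x0 : V}
    (hx0 : x0 ∈ S) : Nat.card V - 1 ≤ H.index * S.ncard := by
  have hx00 : x0 ≠ 0 := fun h => hS0 (h ▸ hx0)
  rw [idx hB hS hS0 hx00]
  refine Nat.le_mul_of_pos_right _ ?_
  rw [Set.ncard_pos (Set.toFinite _)]
  exact ⟨((1 : Sp B) : Sp B ⧸ H), mem_tr_iff (by simpa using hx0)⟩

theorem idx_point {w : V} (hw : w ≠ 0) (h : ∀ h ∈ H, ∃ a : F, h • w = a • w) :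
    Nat.card V - 1 ≤ H.index * (Nat.card F - 1) := by
  have h1 : ({x | x ≠ 0 ∧ ∃ a : F, x = a • w} : Set V).ncard = Nat.card F - 1 := by
    have : ({x | x ≠ 0 ∧ ∃ a : F, x = a • w} : Set V) = (fun a : F => a • w) '' {0}ᶜ := by
      ext x
      constructor
      · rintro ⟨hx, a, rfl⟩
        exact ⟨a, fun ha => hx (by rw [Set.mem_singleton_iff.1 ha, zero_smul]), rfl⟩
      · rintro ⟨a, ha, rfl⟩
        exact ⟨smul_ne_zero ha hw, a, rfl⟩
    rw [this, Set.ncard_image_of_injective _ (smul_left_injective F hw), Set.ncard_compl,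
      Set.ncard_singleton]
  rw [← h1]
  refine idx_ge hB ?_ (fun h => h.1 rfl) (x0 := w) ⟨hw, 1, (one_smul _ _).symm⟩
  rintro g hg _ ⟨hx, a, rfl⟩
  refine ⟨(smul_ne_zero_iff_ne g).2 hx, ?_⟩
  obtain ⟨b, hb⟩ := h g hg
  exact ⟨a * b, by rw [smul_fsmul, hb, smul_smul]⟩

theorem card_U {v v' : V} (hvv : B v v' = 1) :
    Nat.card V ≤ Nat.card {u : V // B v u = 0 ∧ B v' u = 0} * Nat.card F ^ 2 := by
  have hv'v : B v' v = -1 := by rw [skew hB, hvv]
  rw [sq, ← Nat.card_prod, ← Nat.card_prod]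
  refine Nat.card_le_card_of_injective
    (fun x : V => ((⟨x - B x v' • v + B x v • v', ?_, ?_⟩ :
      {u : V // B v u = 0 ∧ B v' u = 0}), (B x v', B x v))) ?_
  · simp only [map_add, map_sub, map_smul, hB.alt, hvv, smul_eq_mul, skew hB v x]
    ring
  · simp only [map_add, map_sub, map_smul, hB.alt, hv'v, smul_eq_mul, skew hB v' x]
    ring
  · intro x y hxy
    simp only [Prod.mk.injEq, Subtype.mk.injEq] at hxy
    obtain ⟨h1, h2, h3⟩ := hxy
    rw [h2, h3] at h1
    simpa using h1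

theorem idx_WU {v v' : V} (hvv : B v v' = 1) {S : Set V} (hS : ∀ h ∈ H, ∀ x ∈ S, h • x ∈ S)
    (hS0 : (0 : V) ∉ S) (hvS : v ∈ S) (hvS' : v' ∈ S)
    (hSW : ∀ x ∈ S, (∃ a b : F, x = a • v + b • v') ∨ B v x = 0) :
    (Nat.card V - 1) * Nat.card {u : V // B v u = 0 ∧ B v' u = 0} ≤ H.index * S.ncard := by
  have hv0 : v ≠ 0 := fun h => hS0 (h ▸ hvS)
  have hv'v : B v' v = -1 := by rw [skew hB, hvv]
  rw [idx hB hS hS0 hv0]
  refine Nat.mul_le_mul_left _ ?_
  rw [← Nat.card_coe_set_eq]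
  refine Nat.card_le_card_of_injective
    (fun u : {u : V // B v u = 0 ∧ B v' u = 0} => (⟨((E B v u.1 0 : Sp B) : Sp B ⧸ H),
      mem_tr_iff ?_⟩ : {ω : Sp B ⧸ H | v ∈ tr H S ω})) ?_
  · rw [inv_smul_eq_iff.2 (E_smul_v hB u.2.1 0).symm]
    exact hvS
  · rintro ⟨u1, h1, h1'⟩ ⟨u2, h2, h2'⟩ h
    have h3 : ((E B v u1 0 : Sp B) : Sp B ⧸ H) = ((E B v u2 0 : Sp B) : Sp B ⧸ H) :=
      Subtype.mk.inj h
    rw [QuotientGroup.eq, E_inv hB h1, E_mul hB (by rw [map_neg, h1, neg_zero]) h2] at h3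
    have h5 : B v (-u1 + u2) = 0 := by rw [map_add, map_neg, h1, h2, neg_zero, add_zero]
    have h6 : B v' (-u1 + u2) = 0 := by rw [map_add, map_neg, h1', h2', neg_zero, add_zero]
    have h7 : -u1 + u2 = 0 := by
      obtain ⟨e, h3⟩ : ∃ e, E B v (-u1 + u2) e ∈ H := ⟨_, h3⟩
      generalize -u1 + u2 = d at h3 h5 h6
      have h4 := hS _ h3 _ hvS'
      rw [E_smul hB h5, hv'v, h6] at h4
      rcases hSW _ h4 with ⟨a, b, hab⟩ | hab
      · have h8 : d = (1 - b) • v' + (-e - a) • v := by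
          calc d = v' + (e * -1) • v -
              (v' + (-1 : F) • d + (0 : F) • v + (e * -1) • v) := by module
            _ = _ := by rw [hab]; module
        have h9 := congrArg (B v) h8
        have h10 := congrArg (B v') h8
        simp only [map_add, map_smul, hB.alt, hvv, hv'v, h5, h6, smul_eq_mul] at h9 h10
        have h11 : 1 - b = 0 := by linear_combination -h9
        have h12 : -e - a = 0 := by linear_combination h10
        rw [h8, h11, h12, zero_smul, zero_smul, add_zero]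
      · exfalso
        simp only [map_add, map_smul, hvv, h5, hB.alt] at hab
        simp at hab
    have : u1 = u2 := by
      rw [neg_add_eq_zero] at h7
      exact h7
    exact Subtype.ext this

end Idx

end Cfsg.Agent.H74.Psp
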