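import Cfsg.Agent.H74.SpI

/-!
Characteristic two: not all points can have full image of `H ∩ Q_v` in `v^⊥/v`.
-/

set_option autoImplicit false
set_option linter.unusedSectionVars false
set_option linter.unusedSimpArgs false

namespace Cfsg.Agent.H74.Psp

open Module

variable {F V : Type*} [Field F] [AddCommGroup V] [Module F V] {B : V →ₗ[F] V →ₗ[F] F}

section

variable [Finite V] [Finite F] (hB : Symp B) {H : Subgroup (Sp B)}
include hB

theorem exists_avoid (hq3 : 3 ≤ Nat.card F) (e : F) : ∃ a : F, a ≠ 0 ∧ a ≠ e := by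
  by_contra! hcon
  have : (Set.univ : Set F) ⊆ {0, e} := by
    intro a _
    by_cases ha : a = 0
    · exact Or.inl ha
    · exact Or.inr (hcon a ha)
  have h1 := Set.ncard_le_ncard this (Set.toFinite _)
  have h2 := Set.ncard_insert_le (0 : F) {e}
  rw [Set.ncard_univ] at h1
  rw [Set.ncard_singleton] at h2
  omega

theorem Tv_of_E (hq3 : 3 ≤ Nat.card F) {v w : V} (hvw : B v w = 0)
    (h : ∀ a : F, a ≠ 0 → E B v w a ∈ H) : Tv H v := by
  intro e
  obtain ⟨a, ha0, hae⟩ := exists_avoid hB hq3 e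
  have h1 := h a ha0
  have h2 := h (a - e) (sub_ne_zero.2 hae)
  have h3 := H.mul_mem h1 (H.inv_mem h2)
  rw [E_inv hB hvw, E_mul hB hvw (by rw [map_neg, hvw, neg_zero])] at h3
  rw [add_neg_cancel, map_neg, LinearMap.neg_apply, hB.alt, neg_zero, add_zero] at h3
  rwa [show a + -(a - e) = e by ring] at h3

/-- `R_v` maps onto `v^⊥/v` -/
def Onto (H : Subgroup (Sp B)) (v : V) : Prop := ∀ w, B v w = 0 → ∃ c, E B v w c ∈ H

theorem Onto.move {v w : V} (h : Onto H v) (hvw : B v w = 0) (hw : ∀ a : F, w ≠ a • v) (b : F) :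
    ∃ g ∈ H, g • v = v ∧ g • w = w + b • v := by
  obtain ⟨w', h1, h2⟩ := sep1 hB hw
  obtain ⟨c, hc⟩ := h (b • w') (by rw [map_smul, h1, smul_zero])
  have h3 : B v (b • w') = 0 := by rw [map_smul, h1, smul_zero]
  refine ⟨_, hc, E_smul_v hB h3 c, ?_⟩
  rw [E_smul_orth hB h3 c hvw, map_smul, h2, smul_eq_mul, mul_one]

theorem onto_step (hq3 : 3 ≤ Nat.card F) {v w : V} (hv : ¬ Tv H v) (hO : Onto H v)
    (hvw : B v w = 0) (hw : ∀ a : F, w ≠ a • v) : ¬ Tv H w := by
  intro hT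
  apply hv
  refine Tv_of_E hB hq3 hvw (fun b hb => ?_)
  obtain ⟨g, hg, h1, h2⟩ := hO.move hB hvw hw b
  have hT' : Tv H (w + b • v) := by
    rw [← h2]
    exact hT.conj hB hg
  have hwb : B w (b • v) = 0 := by rw [map_smul, orth_symm hB hvw, smul_zero]
  have h3 := hT' b⁻¹
  rw [t_add hB hwb, mul_assoc] at h3
  have h4 := (H.mul_mem_cancel_left (hT b⁻¹)).1 h3
  have h5 : E B w (b⁻¹ • b • v) 0 = E B v w 0 := by
    rw [smul_smul, inv_mul_cancel₀ hb, one_smul, E_comm0 hB (orth_symm hB hvw)]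
  rw [h5, t_scale hB, t, E_mul hB (map_zero _) hvw, zero_add, map_zero, add_zero,
    add_zero] at h4
  have h6 : b ^ 2 * b⁻¹ = b := by field_simp
  rwa [h6] at h4

theorem onto_all (hq3 : 3 ≤ Nat.card F) (hV : Nat.card F ^ 4 ≤ Nat.card V)
    (hO : ∀ v, v ≠ 0 → ¬ Tv H v → Onto H v) (hgen : ∃ x, ¬ Tv H x) :
    ∀ z, z ≠ 0 → ¬ Tv H z := by
  obtain ⟨v, hv⟩ := hgen
  have hv0 : v ≠ 0 := by
    rintro rfl
    exact hv (Tv.zero hB)
  intro z hz
  by_cases h1 : ∃ a : F, z = a • v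
  · obtain ⟨a, rfl⟩ := h1
    intro hT
    have ha : a ≠ 0 := by rintro rfl; simp at hz
    apply hv
    have := hT.fsmul hB a⁻¹
    rwa [smul_smul, inv_mul_cancel₀ ha, one_smul] at this
  push Not at h1
  by_cases h2 : B v z = 0
  · exact onto_step hB hq3 hv (hO v hv0 hv) h2 h1
  · obtain ⟨w, hw1, hw2, hw0⟩ : ∃ w, B v w = 0 ∧ B z w = 0 ∧ w ≠ 0 := by
      by_contra! hcon
      set z' := (B v z)⁻¹ • z with hz'
      have h3 : B v z' = 1 := by rw [hz', map_smul, smul_eq_mul, inv_mul_cancel₀ h2]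
      have h4 := card_U hB h3
      have h5 : Nat.card {u : V // B v u = 0 ∧ B z' u = 0} ≤ 1 := by
        rw [Finite.card_le_one_iff_subsingleton]
        have h6 : ∀ a : {u : V // B v u = 0 ∧ B z' u = 0}, a.1 = 0 := by
          intro a
          refine hcon _ a.2.1 ?_
          have h7 : ∀ y, B z' y = (B v z)⁻¹ * B z y := by
            intro y
            rw [hz', map_smul, LinearMap.smul_apply, smul_eq_mul]
          have h8 := a.2.2
          rw [h7] at h8
          exact (mul_eq_zero.1 h8).resolve_left (inv_ne_zero h2)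
        exact ⟨fun a b => Subtype.ext (by rw [h6 a, h6 b])⟩
      have h6 : Nat.card F ^ 4 ≤ 1 * Nat.card F ^ 2 :=
        hV.trans (h4.trans (Nat.mul_le_mul_right _ h5))
      have h7 : Nat.card F ^ 2 < Nat.card F ^ 4 := Nat.pow_lt_pow_right (by omega) (by norm_num)
      omega
    have hwv : ∀ a : F, w ≠ a • v := by
      rintro a rfl
      have ha : a ≠ 0 := by rintro rfl; simp at hw0
      rw [map_smul, smul_eq_mul] at hw2
      have := (mul_eq_zero.1 hw2).resolve_left ha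
      exact h2 (orth_symm hB this)
    have hw := onto_step hB hq3 hv (hO v hv0 hv) hw1 hwv
    refine onto_step hB hq3 hw (hO w hw0 hw) (orth_symm hB hw2) ?_
    rintro a rfl
    exact h2 (by rw [map_smul, hw1, smul_zero])

theorem E_line {v w : V} (hvw : B v w = 0) (b s c : F) :
    E B (v + b • w) (s • w) c = E B v (s • w) c * E B w ((c * b) • v) (2 * b * s + c * b ^ 2) := by
  have hwv := orth_symm hB hvw
  have e1 : B v (s • w) = 0 := by rw [map_smul, hvw, smul_zero]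
  have e2 : B w ((c * b) • v) = 0 := by rw [map_smul, hwv, smul_zero]
  have e3 : B (v + b • w) (s • w) = 0 := by
    simp [hvw, hB.alt]
  apply Sp.ext'; intro x
  rw [mul_smul, E_smul hB e3, E_smul hB e2, E_smul hB e1]
  simp only [map_add, map_smul, LinearMap.add_apply, LinearMap.smul_apply, smul_eq_mul,
    hB.alt, hvw, hwv, mul_zero, add_zero]
  module

theorem onto_E (hq3 : 3 ≤ Nat.card F) (h2 : (2 : F) = 0) (hT : ∀ z, z ≠ 0 → ¬ Tv H z)
    (hO : ∀ v, v ≠ 0 → Onto H v) {v w : V} (hv0 : v ≠ 0) (hw0 : w ≠ 0) (hvw : B v w = 0)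
    (hw : ∀ a : F, w ≠ a • v) (hv : ∀ a : F, v ≠ a • w) {c : F} (hc : E B v w c ∈ H) :
    c = 0 := by
  by_contra hc0
  have hwv := orth_symm hB hvw
  have s1 : ∀ s : F, E B w (s • v) (s ^ 2 / c) ∈ H := by
    intro s
    obtain ⟨g, hg, h3, h4⟩ := (hO w hw0).move hB hwv hv (s / c)
    have h5 : E B (v + (s / c) • w) ((1 : F) • w) c ∈ H := by
      have := conj_E hB g hvw c
      rw [h3, h4] at this
      rw [one_smul, ← this]
      exact H.mul_mem (H.mul_mem hg hc) (H.inv_mem hg)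
    rw [E_line hB hvw, one_smul] at h5
    have h6 := (H.mul_mem_cancel_left hc).1 h5
    have e1 : c * (s / c) = s := by field_simp
    have e2 : 2 * (s / c) * 1 + c * (s / c) ^ 2 = s ^ 2 / c := by
      rw [h2]; field_simp; ring
    rwa [e1, e2] at h6
  have s2 : ∀ s e : F, E B v ((s ^ 2 / c * e) • w) (s ^ 2 / c * e ^ 2) ∈ H := by
    intro s e
    obtain ⟨g, hg, h3, h4⟩ := (hO v hv0).move hB hvw hw e
    have h5 : E B (w + e • v) (s • v) (s ^ 2 / c) ∈ H := by
      have := conj_E hB g (v := w) (w := s • v) (by rw [map_smul, hwv, smul_zero]) (s ^ 2 / c)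
      rw [h4, smul_fsmul, h3] at this
      rw [← this]
      exact H.mul_mem (H.mul_mem hg (s1 s)) (H.inv_mem hg)
    rw [E_line hB hwv] at h5
    have h6 := (H.mul_mem_cancel_left (s1 s)).1 h5
    rwa [h2, zero_mul, zero_mul, zero_add] at h6
  refine hT v hv0 (Tv_of_E hB hq3 hvw fun e he => ?_)
  obtain ⟨s, hs⟩ : ∃ s : F, s ^ 2 = c / e := by
    have : CharP F 2 := CharTwo.of_one_ne_zero_of_two_eq_zero one_ne_zero h2
    obtain ⟨s, hs⟩ := FiniteField.isSquare_of_char_two (F := F) (ringChar.eq F 2) (c / e)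
    exact ⟨s, by rw [sq, hs]⟩
  have h3 := s2 s e
  have e1 : s ^ 2 / c * e = 1 := by rw [hs]; field_simp
  have e2 : s ^ 2 / c * e ^ 2 = e := by rw [hs]; field_simp
  rwa [e1, e2, one_smul] at h3

/-- the case "onto at every point" is impossible in characteristic two -/
theorem onto_false (hq3 : 3 ≤ Nat.card F) (h2 : (2 : F) = 0) (hV : Nat.card F ^ 4 ≤ Nat.card V)
    (hO : ∀ v, v ≠ 0 → ¬ Tv H v → Onto H v) (hgen : ∃ x, ¬ Tv H x) : False := by
  have hT := onto_all hB hq3 hV hO hgen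
  have hO' : ∀ v, v ≠ 0 → Onto H v := fun v hv => hO v hv (hT v hv)
  obtain ⟨v, hv⟩ := hgen
  have hv0 : v ≠ 0 := by
    rintro rfl
    exact hv (Tv.zero hB)
  obtain ⟨v', hvv⟩ := sep0 hB hv0
  obtain ⟨w, hw1, hw2, hw0⟩ : ∃ w, B v w = 0 ∧ B v' w = 0 ∧ w ≠ 0 := by
    by_contra! hcon
    have h4 := card_U hB hvv
    have h5 : Nat.card {u : V // B v u = 0 ∧ B v' u = 0} ≤ 1 := by
      rw [Finite.card_le_one_iff_subsingleton]
      exact ⟨fun a b => Subtype.ext (by rw [hcon _ a.2.1 a.2.2, hcon _ b.2.1 b.2.2])⟩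
    have h6 : Nat.card F ^ 4 ≤ 1 * Nat.card F ^ 2 :=
      hV.trans (h4.trans (Nat.mul_le_mul_right _ h5))
    have h7 : Nat.card F ^ 2 < Nat.card F ^ 4 := Nat.pow_lt_pow_right (by omega) (by norm_num)
    omega
  obtain ⟨w', h3, h4, h5⟩ := sep2 hB (U_notMem hB hvv hw1 hw2 hw0)
  have hw'0 : w' ≠ 0 := by rintro rfl; simp at h5
  have hne : ∀ x, B v x = 0 → B v' x = 0 → x ≠ 0 → (∀ a : F, x ≠ a • v) ∧ ∀ a : F, v ≠ a • x := by
    intro x h1 h2 h0
    constructor
    · intro a ha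
      exact U_notMem hB hvv h1 h2 h0 a 0 (by rw [ha]; simp)
    · rintro a rfl
      rw [map_smul, LinearMap.smul_apply, orth_symm hB h2, smul_zero] at hvv
      exact zero_ne_one hvv
  have key : ∀ x, B v x = 0 → B v' x = 0 → x ≠ 0 → ∀ c, E B v x c ∈ H → c = 0 :=
    fun x h1 h2' h0 c hc => onto_E hB hq3 h2 hT hO' hv0 h0 h1 (hne x h1 h2' h0).1
      (hne x h1 h2' h0).2 hc
  obtain ⟨c, hc⟩ := hO' v hv0 w hw1
  obtain ⟨c', hc'⟩ := hO' v hv0 w' h3
  have e1 := key w hw1 hw2 hw0 c hc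
  have e2 := key w' h3 h4 hw'0 c' hc'
  have e3 := H.mul_mem hc hc'
  rw [E_mul hB hw1 h3] at e3
  have e4 := key (w + w') (by rw [map_add, hw1, h3, add_zero])
    (by rw [map_add, hw2, h4, add_zero]) (by
      intro h0
      have : B w (w + w') = 1 := by rw [map_add, hB.alt, h5, zero_add]
      rw [h0, map_zero] at this
      exact zero_ne_one this) _ e3
  rw [e1, e2, skew hB, h5] at e4
  simp at e4

end

end Cfsg.Agent.H74.Psp
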