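import Cfsg.Agent.H74.SpJ
import Cfsg.Agent.H74.SpK

/-!
The lower bound for the index of a proper subgroup of `Sp B`.
-/

set_option autoImplicit false
set_option linter.unusedSectionVars false
set_option linter.unusedSimpArgs false

namespace Cfsg.Agent.H74.Psp

open Module

variable {F V : Type*} [Field F] [AddCommGroup V] [Module F V] {B : V →ₗ[F] V →ₗ[F] F}

section

variable [Finite V] [Finite F] {H : Subgroup (Sp B)}

section Tau

variable {p : ℕ} [Fact p.Prime] [CharP F p] {τ : F →+ ZMod p}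
  (hτ : ∀ c : F, (∀ x, τ (c * x) = 0) → c = 0) (hB : Symp B)
include hτ hB

theorem mem_Rs_of_As {v w : V} (hw : ∀ x ∈ As τ hB H v, τ (B x w) = 0) : w ∈ Rs hB H v := by
  have hV : ∀ x : V, p • x = 0 := by
    intro x
    rw [← Nat.cast_smul_eq_nsmul F, CharP.cast_eq_zero, zero_smul]
  let β : V →+ V →+ ZMod p :=
    AddMonoidHom.mk' (fun w => τ.comp (B.flip w).toAddMonoidHom) (by
      intro a b
      ext x
      simp)
  have hβ : ∀ w x, β w x = τ (B x w) := fun _ _ => rfl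
  have hnd : ∀ w, (∀ x, β w x = 0) → w = 0 := by
    intro w hw
    refine hB.nd w fun y => ?_
    rw [skew hB, neg_eq_zero]
    apply hτ
    intro a
    have := hw (a • y)
    rwa [hβ, map_smul, LinearMap.smul_apply, smul_eq_mul, mul_comm] at this
  refine (H74.dual_card hV hV β hnd (Rs hB H v)).2 w fun x hx => ?_
  exact hw x hx

theorem exists_bar {v : V} (hv : ¬ Tv H v) :
    ∃ b0 : F, (∀ c ∈ Z0 hB H v, τ (b0 * c) = 0) ∧ b0 ≠ 0 := by
  by_contra! hcon
  have h1 : {a : F | ∀ c ∈ Z0 hB H v, τ (a * c) = 0}.ncard ≤ 1 := by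
    have : {a : F | ∀ c ∈ Z0 hB H v, τ (a * c) = 0} ⊆ {0} := fun x hx => hcon x hx
    have h2 := Set.ncard_le_ncard this
    rwa [Set.ncard_singleton] at h2
  have h2 := card_bar hτ (Z0 hB H v)
  have h3 : Nat.card F ≤ Nat.card (Z0 hB H v) := by
    calc Nat.card F = _ := h2.symm
      _ ≤ 1 * Nat.card (Z0 hB H v) := Nat.mul_le_mul_right _ h1
      _ = _ := one_mul _
  have h4 : Z0 hB H v = ⊤ := AddSubgroup.eq_top_of_le_card _ h3
  apply hv
  intro a
  have : a ∈ Z0 hB H v := by rw [h4]; trivial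
  exact this

/-- isotropy of `H ∩ Q_v` in odd characteristic -/
theorem card_le_sq (h2 : (2 : F) ≠ 0) {v : V} (hv : ¬ Tv H v) :
    Nat.card V ≤ Nat.card (As τ hB H v) ^ 2 := by
  obtain ⟨b0, hb0, hb1⟩ := exists_bar hτ hB hv
  have h3 : Nat.card (Rs hB H v) ≤ Nat.card (As τ hB H v) := by
    refine Nat.card_le_card_of_injective
      (fun w : Rs hB H v => (⟨(2 * b0) • w.1, ?_⟩ : As τ hB H v)) ?_
    · rintro w' ⟨hw'1, c', hw'2⟩
      obtain ⟨hw1, c, hw2⟩ := w.2
      have h4 : t B v (2 * B w.1 w') ∈ H := by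
        rw [← E_commutator hB hw'1 hw1 c' c]
        exact H.mul_mem (H.mul_mem (H.mul_mem hw'2 hw2) (H.inv_mem hw'2)) (H.inv_mem hw2)
      have h5 := hb0 _ h4
      rwa [map_smul, LinearMap.smul_apply, smul_eq_mul,
        show 2 * b0 * B w.1 w' = b0 * (2 * B w.1 w') by ring]
    · intro x y hxy
      have h4 := Subtype.mk.inj hxy
      exact Subtype.ext (smul_right_injective V (mul_ne_zero h2 hb1) h4)
  rw [← card_As hτ hB H v, sq]
  exact Nat.mul_le_mul_left _ h3

theorem Rs_N {v : V} (hN : ∀ y, B v y = 0 → y ∈ As τ hB H v) {w : V} (hw : w ∈ Rs hB H v) :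
    ∃ a : F, w = a • v := by
  by_contra! hcon
  obtain ⟨y, h1, h2⟩ := sep1 hB hcon
  have h3 : (1 : F) = 0 := by
    apply hτ
    intro a
    have h4 := hN (a • y) (by rw [map_smul, h1, smul_zero]) w hw
    rw [map_smul, LinearMap.smul_apply, skew hB y w, h2, smul_eq_mul, mul_neg, mul_one,
      map_neg, neg_eq_zero] at h4
    rwa [one_mul]
  exact one_ne_zero h3

theorem Rs_L {v x : V} (hL : ∀ z, z ∈ As τ hB H v ↔ ∃ a b : F, z = a • v + b • x) {w : V} :
    w ∈ Rs hB H v ↔ B v w = 0 ∧ B x w = 0 := by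
  constructor
  · intro hw
    refine ⟨hw.1, ?_⟩
    apply hτ
    intro a
    have h4 := (hL (a • x)).2 ⟨0, a, by simp⟩ w hw
    rwa [map_smul, LinearMap.smul_apply, smul_eq_mul, mul_comm] at h4
  · rintro ⟨h1, h2⟩
    apply mem_Rs_of_As hτ hB
    intro z hz
    obtain ⟨a, b, rfl⟩ := (hL z).1 hz
    simp [h1, h2]

end Tau

variable (hB : Symp B)
include hB

/-- vectors orthogonal to two orthogonal hyperbolic pairs -/
theorem exists_orth4 (hV : Nat.card F ^ 4 < Nat.card V) (v v' x x' : V) :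
    ∃ u, u ≠ 0 ∧ B v u = 0 ∧ B v' u = 0 ∧ B x u = 0 ∧ B x' u = 0 := by
  let f : V → F × F × F × F := fun u => (B v u, B v' u, B x u, B x' u)
  have hf : ¬ Function.Injective f := by
    intro hf
    have h1 := Nat.card_le_card_of_injective f hf
    rw [Nat.card_prod, Nat.card_prod, Nat.card_prod] at h1
    have h2 : Nat.card F * (Nat.card F * (Nat.card F * Nat.card F)) = Nat.card F ^ 4 := by ring
    omega
  rw [Function.not_injective_iff] at hf
  obtain ⟨a, b, h1, h2⟩ := hf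
  simp only [f, Prod.mk.injEq] at h1
  refine ⟨a - b, sub_ne_zero.2 h2, ?_, ?_, ?_, ?_⟩
  · rw [map_sub, h1.1, sub_self]
  · rw [map_sub, h1.2.1, sub_self]
  · rw [map_sub, h1.2.2.1, sub_self]
  · rw [map_sub, h1.2.2.2, sub_self]

/-- from lifts of commuting elements to transvections, case N -/
theorem TV_of_lift (h2 : (2 : F) ≠ 0) {v v' : V} (hvv : B v v' = 1)
    (hlift : ∀ g : Sp B, g • v = v → g • v' = v' → ∃ c, t B v c * g ∈ H)
    (hor : (∃ r : F, r ≠ 0 ∧ r ^ 2 ≠ 1) ∨ Nat.card F ^ 4 < Nat.card V) :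
    ∀ u, B v u = 0 → B v' u = 0 → Tv H u := by
  intro u hu1 hu2
  by_cases hu0 : u = 0
  · rw [hu0]; exact Tv.zero hB
  intro a
  obtain ⟨u', h3, h4, h5⟩ := sep2 hB (U_notMem hB hvv hu1 hu2 hu0)
  rcases hor with ⟨r, hr, hr2⟩ | hV
  · rw [← t_torus hB h5 hr hr2 a]
    have e1 : hh B u u' r • v = v := hh_smul_orth hB h5 hr (orth_symm hB hu1) (orth_symm hB h3)
    have e2 : hh B u u' r • v' = v' := hh_smul_orth hB h5 hr (orth_symm hB hu2) (orth_symm hB h4)
    have e3 : ∀ a, t B u a • v = v := fun a => t_smul_orth hB _ _ (orth_symm hB hu1)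
    have e4 : ∀ a, t B u a • v' = v' := fun a => t_smul_orth hB _ _ (orth_symm hB hu2)
    obtain ⟨c1, hc1⟩ := hlift _ e1 e2
    obtain ⟨c2, hc2⟩ := hlift _ (e3 _) (e4 _)
    exact comm_mem hB e1 (e3 _) hc1 hc2
  · obtain ⟨w1, hw0, k1, k2, k3, k4⟩ := exists_orth4 hB hV v v' u u'
    obtain ⟨w2, k5, k6, k7⟩ := sep2 hB (U_notMem hB hvv k1 k2 hw0)
    set w3 := w2 - B u w2 • u' with hw3
    have k8 : B v w3 = 0 := by rw [hw3, map_sub, map_smul, k5, h3, smul_zero, sub_zero]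
    have k9 : B v' w3 = 0 := by rw [hw3, map_sub, map_smul, k6, h4, smul_zero, sub_zero]
    have k10 : B u w3 = 0 := by
      rw [hw3, map_sub, map_smul, h5, smul_eq_mul, mul_one, sub_self]
    have k11 : B w1 w3 = 1 := by
      rw [hw3, map_sub, map_smul, k7, orth_symm hB k4, smul_zero, sub_zero]
    have k12 : B u ((-a / 2) • w1) = 0 := by rw [map_smul, k3, smul_zero]
    have e0 : t B u a = E B u ((-a / 2) • w1) 0 * E B u w3 0 * (E B u ((-a / 2) • w1) 0)⁻¹ *
        (E B u w3 0)⁻¹ := by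
      rw [E_commutator hB k12 k10, map_smul, skew hB w3 w1, k11]
      congr 1
      rw [smul_eq_mul]
      field_simp
    have hfix : ∀ w x, B u w = 0 → B u x = 0 → B w x = 0 → E B u w 0 • x = x :=
      fun w x h1 h2 h3 => E_smul_orth2 hB h1 0 h2 h3
    have f1 := hfix ((-a / 2) • w1) v k12 (orth_symm hB hu1)
      (by rw [map_smul, LinearMap.smul_apply, orth_symm hB k1, smul_zero])
    have f2 := hfix ((-a / 2) • w1) v' k12 (orth_symm hB hu2)
      (by rw [map_smul, LinearMap.smul_apply, orth_symm hB k2, smul_zero])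
    have f3 := hfix w3 v k10 (orth_symm hB hu1) (orth_symm hB k8)
    have f4 := hfix w3 v' k10 (orth_symm hB hu2) (orth_symm hB k9)
    obtain ⟨c1, hc1⟩ := hlift _ f1 f2
    obtain ⟨c2, hc2⟩ := hlift _ f3 f4
    rw [e0]
    exact comm_mem hB f1 f3 hc1 hc2

end

end Cfsg.Agent.H74.Psp
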